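import Cfsg.Agent.SPA.Defs
import Cfsg.Agent.SLA.PF
import Cfsg.Agent.Class.RootSL

/-!
# Standard subgroups of type `Sp_{2k}(2ⁿ)`, linear overgroups: incident point-hyperplane pairs
-/

set_option autoImplicit false
set_option linter.unusedSectionVars false
set_option linter.unusedVariables false

namespace Cfsg.Lib.SPA

open Subgroup Matrix Cfsg.Lib.Trans Cfsg.Lib.Gold Cfsg.Lib.Chev Cfsg.Lib.Known Cfsg.Lib.Class
  Cfsg.Lib.Class.Form Cfsg.Lib.Class.FAut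
open Cfsg.Lib.UM (tT tE Ot)
open Cfsg.Lib.SPN (Mo O3 H1 TH T1 T3 G1 G2)
open Cfsg.Lib.SLA (I SLd Vc Par Md Ind El Fx Inr Ty IsTv ac gr lst z0 e0 f0 U0 P0 Q0 R0 V0 V1)
open Cfsg.Lib.SG2 (Uq Top)
open scoped commutatorElement

variable {d : ℕ} {F : Type*} [Field F] [Finite F] {x f y g w x' f' : Vc d F}

namespace T

theorem tool {a b : ℕ} (h : a + b < d + 3) (p : Fin a → Vc d F) (q : Fin b → Vc d F) :
    ∃ x, (∀ i, p i ⬝ᵥ x = 0) ∧ ∀ c : Fin b → F, ∑ i, c i • q i ≠ x := by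
  by_contra hc
  have l : LinearMap.ker (Matrix.of p).mulVecLin ≤ Submodule.span F (Set.range q) := fun x hx =>
    (Submodule.mem_span_range_iff_exists_fun F).2 (by_contra fun k =>
      hc ⟨x, fun i => congrFun hx i, fun c e => k ⟨c, e⟩⟩)
  have h2 := (Submodule.finrank_mono l).trans (finrank_range_le_card q)
  have h3 := LinearMap.finrank_range_add_finrank_ker (Matrix.of p).mulVecLin
  have h4 := Submodule.finrank_le (LinearMap.range (Matrix.of p).mulVecLin)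
  simp only [Module.finrank_fintype_fun_eq_card, Fintype.card_fin] at h2 h3 h4
  omega

theorem tool1 {a : ℕ} (h : a + 1 < d + 3) (p : Fin a → Vc d F) (g : Vc d F) :
    ∃ f, (∀ i, f ⬝ᵥ p i = 0) ∧ ∀ c : F, c • g ≠ f := by
  obtain ⟨f, h1, h2⟩ := tool h p ![g]
  exact ⟨f, fun i => (dotProduct_comm _ _).trans (h1 i), fun c => by simpa using h2 ![c]⟩

theorem li (h : x ≠ 0) (k : ∀ c : F, c • x ≠ y) : LinearIndependent F ![x, y] :=
  (LinearIndependent.pair_iff' h).2 k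

theorem li_add (h : x ≠ 0) (k : ∀ c : F, c • x ≠ y) : LinearIndependent F ![x, x + y] :=
  li h fun c e => k (c - 1) (by rw [sub_smul, e, one_smul, add_sub_cancel_left])

theorem add_ne (k : LinearIndependent F ![x, y]) : x + y ≠ 0 := fun e =>
  one_ne_zero (LinearIndependent.pair_iff.1 k 1 1 (by simpa using e)).1

theorem rev_ne (h : x ≠ 0) : x ∘ Fin.rev ≠ 0 := fun e => h (funext fun i => by
  simpa using congrFun e i.rev)

end T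

open T

theorem gr_mulVec (a : SLd d F) (f : Vc d F) :
    (gr d F a).1 *ᵥ (f ∘ Fin.rev) = (f ᵥ* (a⁻¹).1) ∘ Fin.rev := by
  funext i
  simp only [mulVec, vecMul, dotProduct, SLA.PF_gr, Function.comp]
  rw [← Equiv.sum_comp Fin.revPerm]
  simp [mul_comm]

theorem vecMul_gr (a : SLd d F) (x : Vc d F) :
    (x ∘ Fin.rev) ᵥ* ((gr d F a)⁻¹).1 = (a.1 *ᵥ x) ∘ Fin.rev := by
  funext i
  rw [← map_inv]
  simp only [mulVec, vecMul, dotProduct, SLA.PF_gr, Function.comp, inv_inv]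
  rw [← Equiv.sum_comp Fin.revPerm]
  simp [mul_comm]

theorem dot_rev (f x : Vc d F) : (x ∘ Fin.rev) ⬝ᵥ (f ∘ Fin.rev) = f ⬝ᵥ x := by
  simp only [dotProduct, Function.comp]
  rw [← Equiv.sum_comp Fin.revPerm]
  simp [mul_comm]

theorem gr_tvS (h : Par d F) (k : f ⬝ᵥ x = 0) :
    gr d F (tvS x f) = tvS (f ∘ Fin.rev) (x ∘ Fin.rev) := by
  refine SL_ext_mulVec fun u => ?_
  have e : u = (u ∘ Fin.rev) ∘ Fin.rev := funext fun i => by simp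
  generalize u ∘ Fin.rev = p at e
  have n : -x = x := funext fun i => by
    simp only [Pi.neg_apply]; linear_combination (-x i) * h.two
  rw [e, gr_mulVec, tvS_mulVec (by rw [dot_rev, k]), tvS_inv k, n, vecMul_tvS k, dot_rev]
  rfl

theorem Pr.rev (k : Pr x f) : Pr (f ∘ Fin.rev) (x ∘ Fin.rev) :=
  ⟨rev_ne k.f0, rev_ne k.x0, (dot_rev _ _).trans k.fx⟩

theorem Pr.act (k : Pr x f) (a : SLd d F) : Pr (a.1 *ᵥ x) (f ᵥ* (a⁻¹).1) :=
  ⟨SL_mulVec_ne_zero a k.x0, SL_vecMul_ne_zero a⁻¹ k.f0, (SL_vecMul_inv_dot_mulVec a f x).trans k.fx⟩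

theorem pr0 : Pr (e0 d F) (f0 d F) := ⟨SLA.e0_ne, SLA.f0_ne, SLA.PF_f0_e0⟩

theorem Pr.tr (k : Pr x f) : ∃ a : SLd d F, a.1 *ᵥ e0 d F = x ∧ SLA.f0 d F ᵥ* (a⁻¹).1 = f :=
  let ⟨a, h1, h2, _⟩ := exists_conj_tvS (by simp) SLA.e0_ne SLA.f0_ne k.x0 k.f0 SLA.PF_f0_e0 k.fx
  ⟨a, h1, h2⟩

theorem Gn.pr (h : Par d F) (k : Gn x f y g) : Pr x f ∧ Pr y g ∧ Pr (x + y) (f + g) ∧
    Pr x (f + g) ∧ x + y ≠ 0 ∧ f + g ≠ 0 :=
  ⟨⟨k.xy.ne_zero 0, k.fg.ne_zero 0, k.fx⟩, ⟨k.xy.ne_zero 1, k.fg.ne_zero 1, k.gy⟩,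
    ⟨add_ne k.xy, add_ne k.fg, by simp [k.fx, k.fy, k.gx, k.gy]⟩,
    ⟨k.xy.ne_zero 0, add_ne k.fg, by simp [k.fx, k.gx]⟩, add_ne k.xy, add_ne k.fg⟩

theorem Pr.ext (hd : 3 ≤ d) (k : Pr y g) : ∃ x f, Gn x f y g := by
  obtain ⟨x, h1, h2⟩ := tool1 (a := 1) (by omega) ![g] y
  obtain ⟨f, h3, h4⟩ := tool1 (a := 2) (by omega) ![x, y] g
  exact ⟨x, f, LinearIndependent.pair_symm_iff.1 (li k.x0 h2),
    LinearIndependent.pair_symm_iff.1 (li k.f0 h4), h3 0, h3 1,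
    (dotProduct_comm _ _).trans (h1 0), k.fx⟩

theorem aux (h : Par d F) (hd : 3 ≤ d) (w w' g : Vc d F) : ∃ x f, Pr x f ∧ f ⬝ᵥ w = 0 ∧
    f ⬝ᵥ w' = 0 ∧ g ⬝ᵥ x = 0 ∧ x + w ≠ 0 ∧ x + w' ≠ 0 ∧ x + w' + w ≠ 0 ∧ f + g ≠ 0 := by
  obtain ⟨f, h1, h2⟩ := tool1 (a := 2) (by omega) ![w, w'] g
  obtain ⟨x, h3, h4⟩ := tool (a := 2) (b := 2) (by omega) ![f, g] ![w, w']
  have h5 : ∀ a b : F, x + (a • w + b • w') ≠ 0 := fun a b e => h4 ![-a, -b] (by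
    simp only [Fin.sum_univ_two, cons_val_zero, cons_val_one]
    linear_combination (norm := module) -e)
  exact ⟨x, f, ⟨by simpa using h5 0 0, fun e => h2 0 (by simp [e]), h3 0⟩, h1 0, h1 1, h3 1,
    by simpa using h5 1 0, by simpa using h5 0 1, by simpa [add_assoc, add_comm w] using h5 1 1,
    fun e => h2 (-1) (by linear_combination (norm := module) -e)⟩

theorem nbr (h : Par d F) (hd : 3 ≤ d) (k : Pr x f) (k' : Pr x' f') (h1 : f ⬝ᵥ w = 0)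
    (h2 : f' ⬝ᵥ w = 0) (h3 : x + w ≠ 0) (h4 : x' + w ≠ 0) : ∃ y g, g ⬝ᵥ w = 0 ∧
      Gn x f (x + y) (f + g) ∧ Gn (x + w) f (x + y) (f + g) ∧
      Gn x' f' (x' + y) (f' + g) ∧ Gn (x' + w) f' (x' + y) (f' + g) := by
  obtain ⟨y, y1, y2⟩ := tool (a := 2) (b := 3) (by omega) ![f, f'] ![x, x', w]
  have y3 : ∀ a b c : F, a • x + b • x' + c • w ≠ y := fun a b c => by
    simpa [Fin.sum_univ_three] using y2 ![a, b, c]
  obtain ⟨g, g1, g2, g3⟩ : ∃ g, (∀ i, g ⬝ᵥ ![w, x, x', y] i = 0) ∧ (∀ c : F, c • f ≠ g) ∧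
      ∀ c : F, c • f' ≠ g := by
    obtain ⟨a, a1, a2⟩ := tool1 (a := 4) (by omega) ![w, x, x', y] f
    obtain ⟨b, b1, b2⟩ := tool1 (a := 4) (by omega) ![w, x, x', y] f'
    by_cases a3 : ∀ c : F, c • f' ≠ a
    · exact ⟨a, a1, a2, a3⟩
    by_cases b3 : ∀ c : F, c • f ≠ b
    · exact ⟨b, b1, b3, b2⟩
    simp only [not_forall, not_not] at a3 b3
    obtain ⟨r, a3⟩ := a3
    obtain ⟨s, b3⟩ := b3
    exact ⟨a + b, fun i => by rw [add_dotProduct, a1, b1, add_zero],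
      fun c e => a2 (c - s) (by rw [sub_smul, e, b3, add_sub_cancel_right]),
      fun c e => b2 (c - r) (by rw [sub_smul, e, a3, add_sub_cancel_left])⟩
  have gw : g ⬝ᵥ w = 0 := g1 0
  have gx : g ⬝ᵥ x = 0 := g1 1
  have gx' : g ⬝ᵥ x' = 0 := g1 2
  have gy : g ⬝ᵥ y = 0 := g1 3
  have fy : f ⬝ᵥ y = 0 := y1 0
  have fy' : f' ⬝ᵥ y = 0 := y1 1
  have fx := k.fx
  have fx' := k'.fx
  refine ⟨y, g, gw, ⟨li_add k.x0 fun c => by simpa using y3 c 0 0, li_add k.f0 g2, fx, ?_, ?_, ?_⟩,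
    ⟨li h3 fun c e => y3 (c - 1) 0 c (by linear_combination (norm := module) e),
      li_add k.f0 g2, ?_, ?_, ?_, ?_⟩,
    ⟨li_add k'.x0 fun c => by simpa using y3 0 c 0, li_add k'.f0 g3, fx', ?_, ?_, ?_⟩,
    ⟨li h4 fun c e => y3 0 (c - 1) c (by linear_combination (norm := module) e),
      li_add k'.f0 g3, ?_, ?_, ?_, ?_⟩⟩ <;>
  simp only [add_dotProduct, dotProduct_add, gw, gx, gx', gy, fy, fy', fx, fx', h1, h2, add_zero]

end Cfsg.Lib.SPA
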