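import Cfsg.Agent.SPA.Defs
import Cfsg.Agent.Class.TvConj

/-! Transitivity of `SL_N(F)` on generic quadruples. -/

set_option autoImplicit false
set_option linter.unusedSectionVars false

namespace Cfsg.Lib.SPA

open Subgroup Matrix Cfsg.Lib.Trans Cfsg.Lib.Gold Cfsg.Lib.Chev Cfsg.Lib.Known Cfsg.Lib.Class
  Cfsg.Lib.Class.Form Cfsg.Lib.Class.FAut
open Cfsg.Lib.SLA (I SLd Vc Par Md Ind El Fx Inr Ty IsTv ac gr lst z0 e0 f0 U0 P0 Q0 R0 V0 V1)
open scoped commutatorElement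

namespace T2

variable {F : Type*} [Field F] {ι κ : Type} [Fintype ι] [DecidableEq ι] [Fintype κ]

theorem exists_SL (σ : κ → ι) (hσ : Function.Injective σ) (j : ι) (hj : ∀ i, σ i ≠ j)
    {b : κ → ι → F} (hb : LinearIndependent F b) :
    ∃ p : SpecialLinearGroup ι F, ∀ i, p.1 *ᵥ Pi.single (σ i) 1 = b i := by
  have h0 : LinearIndependent F fun i => (Pi.single (σ i) 1 : ι → F) :=
    (Pi.linearIndependent_single_one ι F).comp σ hσ
  have : FiniteDimensional F (Submodule.span F (Set.range fun i => (Pi.single (σ i) 1 : ι → F))) :=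
    inferInstance
  obtain ⟨g, hg⟩ := Submodule.exists_linearEquiv_restrict_eq
    ((Module.Basis.span h0).equiv (Module.Basis.span hb) (Equiv.refl κ))
  have h1 : ∀ i, g (Pi.single (σ i) 1) = b i := fun i => by
    have := hg (Module.Basis.span h0 i)
    rw [Module.Basis.equiv_apply, Module.Basis.span_apply, Module.Basis.span_apply] at this
    exact this.symm
  have h2 : (LinearMap.toMatrix' (g : (ι → F) →ₗ[F] ι → F)).det ≠ 0 := by
    rw [LinearMap.det_toMatrix']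
    exact (LinearEquiv.isUnit_det' g).ne_zero
  refine ⟨⟨LinearMap.toMatrix' (g : (ι → F) →ₗ[F] ι → F) * diagonal (Function.update 1 j
    (LinearMap.toMatrix' (g : (ι → F) →ₗ[F] ι → F)).det⁻¹), ?_⟩, fun i => ?_⟩
  · rw [det_mul, det_diagonal, Finset.prod_update_of_mem (Finset.mem_univ _)]
    simp only [Pi.one_apply, Finset.prod_const_one, mul_one]
    exact mul_inv_cancel₀ h2
  · change (_ * _) *ᵥ _ = _
    rw [← mulVec_mulVec, diagonal_mulVec_single, Function.update_of_ne (hj i), Pi.one_apply,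
      mul_one, LinearMap.toMatrix'_mulVec]
    exact h1 i

theorem vm {a : SpecialLinearGroup ι F} {f f' : ι → F} (h : f ᵥ* a.1 = f') :
    f' ᵥ* (a⁻¹).1 = f := by
  have e : a.1 * (a⁻¹).1 = 1 := congrArg Subtype.val (mul_inv_cancel a)
  rw [← h, vecMul_vecMul, e, vecMul_one]

end T2

variable {d : ℕ} {F : Type*} [Field F] [Finite F] {x f y g w x' f' : Vc d F}

open T2 in
theorem Gn.tr (hd : 3 ≤ d) (k : Gn x f y g) : ∃ a : SLd d F, a.1 *ᵥ e0 d F = x ∧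
    a.1 *ᵥ e1 d F = y ∧ f0 d F ᵥ* (a⁻¹).1 = f ∧ f1 d F ᵥ* (a⁻¹).1 = g := by
  have v1 : ((1 : I d) : ℕ) = 1 := rfl
  have v2 : ((2 : I d) : ℕ) = 2 := rfl
  have v3 : ((Fin.rev 1 : I d) : ℕ) = d + 1 := rfl
  have v4 : ((lst d : I d) : ℕ) = d + 2 := rfl
  have v0 : ((0 : I d) : ℕ) = 0 := rfl
  have ne : ∀ {a b : I d}, (a : ℕ) ≠ b → a ≠ b := fun h e => h (congrArg _ e)
  have n01 : (0 : I d) ≠ 1 := ne (by omega)
  have n03 : (0 : I d) ≠ Fin.rev 1 := ne (by omega)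
  have n04 : (0 : I d) ≠ lst d := ne (by omega)
  have n13 : (1 : I d) ≠ Fin.rev 1 := ne (by omega)
  have n14 : (1 : I d) ≠ lst d := ne (by omega)
  have n34 : (Fin.rev 1 : I d) ≠ lst d := ne (by omega)
  obtain ⟨q, hq⟩ := exists_SL ![(0 : I d), 1] (by
    intro a b; fin_cases a <;> fin_cases b <;> simp [n01, n01.symm]) 2
    (by
      intro a
      fin_cases a
      exacts [ne (by omega : 0 ≠ 2), ne (by omega : 1 ≠ 2)]) k.fg
  have hq' : ∀ i, (q⁻¹).1 *ᵥ ![f, g] i = Pi.single (![(0 : I d), 1] i) 1 := fun i => by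
    have e : (q⁻¹).1 * q.1 = 1 := congrArg Subtype.val (inv_mul_cancel q)
    rw [← hq, mulVec_mulVec, e, one_mulVec]
  obtain ⟨u, w, fu, gu, fw, gw⟩ : ∃ u w : Vc d F, f ⬝ᵥ u = 0 ∧ g ⬝ᵥ u = 1 ∧ f ⬝ᵥ w = 1 ∧
      g ⬝ᵥ w = 0 := by
    refine ⟨(q⁻¹).1 1, (q⁻¹).1 0, ?_, ?_, ?_, ?_⟩ <;> rw [dotProduct_comm]
    · exact (congrFun (hq' 0) 1).trans (Pi.single_eq_of_ne n01.symm _)
    · exact (congrFun (hq' 1) 1).trans (Pi.single_eq_same _ _)
    · exact (congrFun (hq' 0) 0).trans (Pi.single_eq_same _ _)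
    · exact (congrFun (hq' 1) 0).trans (Pi.single_eq_of_ne n01 _)
  have li : LinearIndependent F ![x, y, u, w] := Fintype.linearIndependent_iff.2 fun c hc => by
    simp only [Fin.sum_univ_four, cons_val_zero, cons_val_one, cons_val] at hc
    have c3 : c 3 = 0 := by
      simpa [k.fx, k.fy, fu, fw] using congrArg (fun v => f ⬝ᵥ v) hc
    have c2 : c 2 = 0 := by
      simpa [k.gx, k.gy, gu, gw] using congrArg (fun v => g ⬝ᵥ v) hc
    obtain ⟨c0, c1⟩ := LinearIndependent.pair_iff.1 k.xy (c 0) (c 1) (by simpa [c2, c3] using hc)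
    intro i
    fin_cases i <;> assumption
  obtain ⟨p, hp⟩ := exists_SL ![(0 : I d), 1, Fin.rev 1, lst d] (by
    intro a b
    fin_cases a <;> fin_cases b <;>
      simp only [Fin.zero_eta, Fin.mk_one, Fin.reduceFinMk, cons_val_zero, cons_val_one, cons_val,
        n01, n03, n04, n13, n14, n34, n01.symm, n03.symm, n04.symm, n13.symm, n14.symm, n34.symm,
        IsEmpty.forall_iff, forall_true_left]) 2
    (by
      intro a
      fin_cases a
      exacts [ne (by omega : 0 ≠ 2), ne (by omega : 1 ≠ 2), ne (by omega : d + 1 ≠ 2),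
        ne (by omega : d + 2 ≠ 2)]) li
  have p0 : p.1 *ᵥ e0 d F = x := hp 0
  have p1 : p.1 *ᵥ e1 d F = y := hp 1
  have p2 : p.1 *ᵥ f1 d F = u := hp 2
  have p3 : p.1 *ᵥ f0 d F = w := hp 3
  have s : ∀ a b : I d, (Pi.single a 1 : Vc d F) ⬝ᵥ Pi.single b 1 = if a = b then 1 else 0 :=
    fun a b => by rw [single_one_dotProduct, Pi.single_apply]
  have s00 : f0 d F ⬝ᵥ f0 d F = 1 := (s _ _).trans (if_pos rfl)
  have s11 : f1 d F ⬝ᵥ f1 d F = 1 := (s _ _).trans (if_pos rfl)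
  have s01 : f0 d F ⬝ᵥ f1 d F = 0 := (s _ _).trans (if_neg n34.symm)
  have s10 : f1 d F ⬝ᵥ f0 d F = 0 := (s _ _).trans (if_neg n34)
  have r00 : f0 d F ⬝ᵥ e0 d F = 0 := (s _ _).trans (if_neg n04.symm)
  have r01 : f0 d F ⬝ᵥ e1 d F = 0 := (s _ _).trans (if_neg n14.symm)
  have r10 : f1 d F ⬝ᵥ e0 d F = 0 := (s _ _).trans (if_neg n03.symm)
  have r11 : f1 d F ⬝ᵥ e1 d F = 0 := (s _ _).trans (if_neg n13.symm)
  have D : ∀ (h m v : Vc d F), (m - h ᵥ* p.1) ⬝ᵥ v = m ⬝ᵥ v - h ⬝ᵥ (p.1 *ᵥ v) := fun h m v => by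
    rw [sub_dotProduct, dotProduct_mulVec]
  have a0 : (f0 d F - f ᵥ* p.1) ⬝ᵥ f0 d F = 0 := by rw [D, s00, p3, fw, sub_self]
  have a1 : (f0 d F - f ᵥ* p.1) ⬝ᵥ f1 d F = 0 := by rw [D, s01, p2, fu, sub_self]
  have b0 : (f1 d F - g ᵥ* p.1) ⬝ᵥ f0 d F = 0 := by rw [D, s10, p3, gw, sub_self]
  have b1 : (f1 d F - g ᵥ* p.1) ⬝ᵥ f1 d F = 0 := by rw [D, s11, p2, gu, sub_self]
  refine ⟨p * (tvS (f0 d F) (f0 d F - f ᵥ* p.1) * tvS (f1 d F) (f1 d F - g ᵥ* p.1)), ?_, ?_,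
    vm ?_, vm ?_⟩
  · rw [SL_mul_mulVec, SL_mul_mulVec, tvS_mulVec b1, D, r10, p0, k.gx, sub_self, zero_smul, add_zero,
      tvS_mulVec a0, D, r00, p0, k.fx, sub_self, zero_smul, add_zero, p0]
  · rw [SL_mul_mulVec, SL_mul_mulVec, tvS_mulVec b1, D, r11, p1, k.gy, sub_self, zero_smul, add_zero,
      tvS_mulVec a0, D, r01, p1, k.fy, sub_self, zero_smul, add_zero, p1]
  · change f ᵥ* (p.1 * ((tvS _ _).1 * (tvS _ _).1)) = _
    rw [← vecMul_vecMul, ← vecMul_vecMul,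
      vecMul_tvS a0, ← dotProduct_mulVec, p3, fw, one_smul, add_sub_cancel, vecMul_tvS b1, s01,
      zero_smul, add_zero]
  · change g ᵥ* (p.1 * ((tvS _ _).1 * (tvS _ _).1)) = _
    rw [← vecMul_vecMul, ← vecMul_vecMul,
      vecMul_tvS a0, ← dotProduct_mulVec, p3, gw, zero_smul, add_zero, vecMul_tvS b1,
      ← dotProduct_mulVec, p2, gu, one_smul, add_sub_cancel]

end Cfsg.Lib.SPA
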