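import Cfsg.Agent.SPA.I1
import Cfsg.Agent.SPA.I4
import Cfsg.Agent.SPA.T
import Cfsg.Agent.SPA.T2
import Cfsg.Agent.SLA.CONN

/-!
# Standard subgroups of type `Sp_{2k}(2ⁿ)`, linear overgroups: the long elements on all pairs
-/

set_option autoImplicit false
set_option linter.unusedSectionVars false
set_option linter.unusedVariables false

namespace Cfsg.Lib.SPA

open Subgroup Matrix Cfsg.Lib.Trans Cfsg.Lib.Gold Cfsg.Lib.Chev Cfsg.Lib.Known Cfsg.Lib.Class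
  Cfsg.Lib.Class.Form Cfsg.Lib.Class.FAut
open Cfsg.Lib.UM (tT tE Ot)
open Cfsg.Lib.SPN (Mo O3 H1 TH T1 T3 G1 G2)
open Cfsg.Lib.SLA (I SLd Vc Par Md Ind El Fx Inr Ty IsTv ac gr lst z0 e0 f0 U0 P0 Q0 R0 V0 V1)
open Cfsg.Lib.SG2 (Uq Top)
open scoped commutatorElement

variable {G F M : Type*} [Group G] [Finite G] [Field F] [Finite F] [AddCommGroup M] [Module F M]
  [FiniteDimensional F M] {B : M →ₗ[F] M →ₗ[F] F} {φ : sIsom B →* G} {t : G} {H A : M → M → G}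
  {D : M → G} {β c : F} {d : ℕ} {v : I d → M} {ψ : SLd d F →* G}

namespace D1

theorem cP (h : T3 φ t H D β) (k : L1 φ t (Ax φ H c) v ψ) :
    P0 d F ≤ (C1 (D (v 0))).comap ψ := by
  refine SLA.gen_P0 _ fun a b n hb ha s => mem_C1.2 ?_
  have m := h.toMo
  have h1 : B (v 0) (v b.rev) = 0 := by
    rw [k.sb.form, if_neg fun e => hb (Fin.rev_injective e)]
  have h2 : B (v 0) (v a) = 0 := by rw [k.sb.form, if_neg (by simpa using ha)]
  have h3 : B (v b.rev) (v a) = 0 := by rw [k.sb.form, if_neg (by simpa using n)]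
  have c1 := h.deqv (tE B (v b.rev) (c • s • v a)) (v 0)
  rw [I1.fixE m (by simp [h3]) (m.swap h1) (by simp [m.swap h2])] at c1
  rw [k.res a b n, Ax]
  exact ((h.dH _ _ _ ⟨h1, by simp [h2], by simp [h3]⟩).symm.mul_left
    (mul_inv_eq_iff_eq_mul.1 c1)).eq

theorem ex (h : T3 φ t H D β) (k : L1 φ t (Ax φ H c) v ψ) : ∃ E : Vc d F → Vc d F → G,
    ∀ g : SLd d F, E (g.1 *ᵥ e0 d F) (f0 d F ᵥ* (g⁻¹).1) = ψ g * D (v 0) * (ψ g)⁻¹ := by
  classical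
  refine ⟨fun x f => if n : Pr x f then ψ n.tr.choose * D (v 0) * (ψ n.tr.choose)⁻¹ else 1,
    fun g => ?_⟩
  have n := pr0.act g
  obtain ⟨h1, h2⟩ := n.tr.choose_spec
  simp only [dif_pos n]
  generalize n.tr.choose = a at h1 h2
  have := mem_C1.1 (cP h k (show a⁻¹ * g ∈ P0 d F from
    ⟨SLA.mem_St0.2 (by rw [SLA.mul_mulVec, ← h1, SLA.inv_mulVec]),
      SLA.mem_St1.2 (by rw [SLA.vecMul_mul, h2, SLA.inv_vecMul])⟩))
  rw [map_mul, map_inv] at this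
  calc _ = ψ a * (D (v 0) * ((ψ a)⁻¹ * ψ g)) * (ψ g)⁻¹ := by group
    _ = _ := by rw [← this]; group

theorem tD (h : T3 φ t H D β) (u : M) : t * D u * t⁻¹ = (D u)⁻¹ := by
  have h1 := h.dt u
  have h2 := h.dsq u
  have h3 : D u * D u * (D u * D u) = 1 := by rw [h2, ← map_mul, h.toMo.tT_sq, map_one]
  rw [← h2, mul_inv_eq_iff_eq_mul] at h1
  rw [inv_eq_of_mul_eq_one_right h.t2, mul_assoc, h1, ← mul_assoc, ← mul_assoc, h.t2, one_mul]
  exact eq_inv_of_mul_eq_one_left (by rw [mul_assoc, h3])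

theorem base (h : T3 φ t H D β) (k : L1 φ t (Ax φ H c) v ψ) {E : Vc d F → Vc d F → G}
    (hE : ∀ g : SLd d F, E (g.1 *ᵥ e0 d F) (f0 d F ᵥ* (g⁻¹).1) = ψ g * D (v 0) * (ψ g)⁻¹) :
    E (e0 d F + e1 d F) (f0 d F + f1 d F) = D (v 0) * E (e1 d F) (f1 d F) *
      ψ (tvS (e0 d F) ((c + 1) • f1 d F)) * ψ (tvS (e1 d F) (c • f0 d F)) := by
  have m := h.toMo
  have d3 := k.gi.three
  have hE' : ∀ (g : SLd d F) x f, g.1 *ᵥ e0 d F = x → f ᵥ* g.1 = f0 d F →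
      E x f = ψ g * D (v 0) * (ψ g)⁻¹ := fun g x f h1 h2 => by
    rw [← hE, h1, ← h2, SLA.vecMul_inv]
  have n1 : (0 : I d) ≠ 1 := by simp
  have n2 : (0 : I d) ≠ Fin.rev 1 := by rw [Ne, Fin.ext_iff]; simp
  have n3 : (0 : I d) ≠ lst d := by rw [Ne, Fin.ext_iff]; simp
  have n4 : (1 : I d) ≠ Fin.rev 1 := by rw [Ne, Fin.ext_iff]; simp; omega
  have n5 : (1 : I d) ≠ lst d := by rw [Ne, Fin.ext_iff]; simp
  have n6 : (Fin.rev 1 : I d) ≠ lst d := by rw [Ne, Fin.ext_iff]; simp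
  have r0 : (Fin.rev 0 : I d) = lst d := Fin.rev_zero _
  have rl : Fin.rev (lst d) = 0 := Fin.rev_last _
  have vs : ∀ x : Vc d F, x + x = 0 := fun x => funext fun i => m.add_self _
  have b1 : B (v 1) (v (lst d)) = 0 := by rw [k.sb.form, if_neg n6.symm]
  have b2 : B (v 0) (v (Fin.rev 1)) = 0 := by rw [k.sb.form, r0, if_neg n6]
  have b3 : B (v 0) (v 1) = 0 := by rw [k.sb.form, r0, if_neg n5]
  have b4 : B (v (lst d)) (v 0) = 1 := by rw [k.sb.form, rl, if_pos rfl]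
  have b5 : B (v (Fin.rev 1)) (v 1) = 1 := by rw [k.sb.form, Fin.rev_rev, if_pos rfl]
  have p1 : ψ (slE 1 0 1 * slE (lst d) (Fin.rev 1) 1) = φ (tE B (v 1) (v (lst d))) := by
    rw [map_mul, k.res _ _ n1.symm, k.res _ _ n6.symm, k.resE _ _ b1, one_smul, one_smul, r0,
      Fin.rev_rev]
  have p2 : ψ (slE 0 1 1 * slE (Fin.rev 1) (lst d) 1) = φ (tE B (v 0) (v (Fin.rev 1))) := by
    rw [map_mul, k.res _ _ n1, k.res _ _ n6, k.resE _ _ b2, one_smul, one_smul, rl]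
  have mv : ∀ {i j : I d}, i ≠ j → ∀ x : Vc d F,
      (slE i j (1 : F) : SLd d F).1 *ᵥ x = x + x j • Pi.single i 1 := fun n x => by
    rw [SLA.slE_eq_tvS n, tvS_mulVec (by simp [n.symm])]; simp
  have vm : ∀ {i j : I d}, i ≠ j → ∀ x : Vc d F,
      x ᵥ* (slE i j (1 : F) : SLd d F).1 = x + x i • Pi.single j 1 := fun n x => by
    rw [SLA.slE_eq_tvS n, vecMul_tvS (by simp [n.symm])]; simp
  have a1 : (slE 1 0 1 * slE (lst d) (Fin.rev 1) 1 : SLd d F).1 *ᵥ e0 d F = e0 d F + e1 d F := by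
    rw [SLA.mul_mulVec, mv n1.symm, mv n6.symm]
    simp [e0, e1, n2.symm]
  have a2 : (f0 d F + f1 d F) ᵥ* (slE 1 0 1 * slE (lst d) (Fin.rev 1) 1 : SLd d F).1 = f0 d F := by
    rw [SLA.vecMul_mul, vm n1.symm, vm n6.symm]
    simp [f0, f1, n4, n5, n6.symm, add_assoc, vs]
  have a3 : (slE 0 1 1 * slE (Fin.rev 1) (lst d) 1 : SLd d F).1 *ᵥ (e0 d F + e1 d F) = e1 d F := by
    rw [SLA.mul_mulVec, mv n1, mv n6]
    simp [e0, e1, n3.symm, n5.symm, add_right_comm, vs]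
  have a4 : f1 d F ᵥ* (slE 0 1 1 * slE (Fin.rev 1) (lst d) 1 : SLd d F).1 = f0 d F + f1 d F := by
    rw [SLA.vecMul_mul, vm n1, vm n6]
    simp [f0, f1, n2, add_comm]
  have e1' : lin (tE B (v 1) (v (lst d))) (v 0) = v 0 + v 1 := by
    simp [m.lin_tE b1, m.swap b3, b4]
  have e2' : lin (tE B (v 0) (v (Fin.rev 1))) (v 0 + v 1) = v 1 := by
    simp [m.lin_tE b2, m.alt, m.swap b2, b3, b5, ← add_assoc, add_right_comm, m.vadd_self]
  have q1 := hE' _ _ _ a1 a2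
  have q2 := hE' (slE 0 1 1 * slE (Fin.rev 1) (lst d) 1 * (slE 1 0 1 * slE (lst d) (Fin.rev 1) 1))
    _ _ (by rw [SLA.mul_mulVec, a1, a3]) (by rw [SLA.vecMul_mul, a4, a2])
  rw [map_mul, _root_.mul_inv_rev, mul_assoc (ψ _), ← mul_assoc, mul_assoc (ψ _), p1, p2, h.deqv,
    h.deqv, e1', e2'] at q2
  rw [q1, p1, h.deqv, e1', q2, h.dadd _ _ b3, H_eq h.toTH c b3, ← mul_assoc]
  have s1 := k.res _ _ n2 (c + 1)
  have s2 := k.res _ _ n5 c
  rw [Fin.rev_rev, SLA.slE_eq_tvS n2] at s1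
  rw [rl, SLA.slE_eq_tvS n5] at s2
  rw [← s1, ← s2, e0, e1, f0, f1, ← Pi.single_smul, ← Pi.single_smul, smul_eq_mul, smul_eq_mul,
    mul_one, mul_one]

end D1

theorem exists_DL (h : T3 φ t H D β) (k : L1 φ t (Ax φ H c) v ψ) :
    ∃ E : Vc d F → Vc d F → G, DL ψ t c E ∧ E (e0 d F) (f0 d F) = D (v 0) ∧
      ∀ x f, Pr x f → ∃ g, E x f = ψ g * D (v 0) * (ψ g)⁻¹ := by
  obtain ⟨E, hE⟩ := D1.ex h k
  have e0' : E (e0 d F) (f0 d F) = D (v 0) := by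
    simpa [SLA.one_mulVec', SLA.vecMul_one'] using hE 1
  have eqv : ∀ g x f, Pr x f → ψ g * E x f * (ψ g)⁻¹ = E (g.1 *ᵥ x) (f ᵥ* (g⁻¹).1) := by
    intro g x f n
    obtain ⟨a, rfl, rfl⟩ := n.tr
    rw [← SLA.mul_mulVec, ← SLA.vecMul_mul, ← _root_.mul_inv_rev, hE, hE, map_mul]
    group
  refine ⟨E, ⟨k.gi, eqv, fun x f n => ?_, fun x f n => ?_, fun x f y g n => ?_⟩, e0',
    fun x f n => ?_⟩
  · obtain ⟨a, rfl, rfl⟩ := n.tr
    rw [hE, conj_mul, h.dsq, ← k.z, SLA.z0_eq_tvS, ← conj_tvS a SLA.PF_f0_e0, map_mul, map_mul,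
      map_inv]
  · obtain ⟨a, rfl, rfl⟩ := n.tr
    have r1 : f0 d F ∘ Fin.rev = e0 d F := funext fun i => by
      simp [e0, f0, Pi.single_apply, Fin.rev_eq_iff]
    have r2 : e0 d F ∘ Fin.rev = f0 d F := funext fun i => by
      simp [e0, f0, Pi.single_apply, Fin.rev_eq_iff]
    rw [← gr_mulVec, ← vecMul_gr, r1, r2, hE, hE, ← conj_mul, ← conj_mul, D1.tD h, ← k.gi.act a]
    group
  · obtain ⟨a, rfl, rfl, rfl, rfl⟩ := n.tr k.gi.three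
    have p := (n.pr k.gi.toPar).2.1.act a⁻¹
    have p' := (n.pr k.gi.toPar).2.2.1.act a⁻¹
    have q1 : f1 d F ⬝ᵥ e0 d F = 0 := (SL_vecMul_inv_dot_mulVec a _ _).symm.trans n.gx
    have q2 : f0 d F ⬝ᵥ e1 d F = 0 := (SL_vecMul_inv_dot_mulVec a _ _).symm.trans n.fy
    rw [← mulVec_add, ← add_vecMul] at p' ⊢
    rw [inv_inv, SLA.inv_mulVec, SLA.inv_vecMul] at p p'
    rw [← eqv a _ _ p', ← eqv a _ _ p, ← eqv a _ _ pr0, ← smul_vecMul, ← smul_vecMul,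
      ← conj_tvS a (by simp [q1]), ← conj_tvS a (by simp [q2]), D1.base h k hE, e0']
    simp only [map_mul, map_inv]
    group
  · obtain ⟨a, rfl, rfl⟩ := n.tr
    exact ⟨a, hE a⟩

end Cfsg.Lib.SPA
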