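import Cfsg.Agent.SPA.T
import Cfsg.Agent.Class.RootSL

/-!
# The linear overgroups: the column elements
-/

set_option autoImplicit false
set_option linter.unusedSectionVars false
set_option linter.unusedVariables false

namespace Cfsg.Lib.SPA

open Subgroup Matrix Cfsg.Lib.Trans Cfsg.Lib.Gold Cfsg.Lib.Chev Cfsg.Lib.Known Cfsg.Lib.Class
  Cfsg.Lib.Class.Form Cfsg.Lib.Class.FAut
open Cfsg.Lib.SLA (I SLd Vc Par Md Ind El Fx Inr Ty IsTv ac gr lst z0 e0 f0 U0 P0 Q0 R0 V0 V1)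
open scoped commutatorElement

section Ext
variable {G : Type*} [Group G] [Finite G] {d : ℕ} {F : Type*} [Field F] [Finite F]
  {ψ : SLd d F →* G} {t : G} {c : F} {E : Vc d F → Vc d F → G} {P R : Vc d F → G}

theorem DL.fix (h : DL ψ t c E) {x f a b : Vc d F} (k : Pr x f) (h1 : b ⬝ᵥ a = 0) (h2 : b ⬝ᵥ x = 0)
    (h3 : f ⬝ᵥ a = 0) : Commute (ψ (tvS a b)) (E x f) := by
  have e := h.eqv (tvS a b) x f k
  rw [tvS_inv h1, tvS_mulVec h1, vecMul_tvS (by simp [h1]), h2, dotProduct_neg, h3, neg_zero,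
    zero_smul, zero_smul, add_zero, add_zero] at e
  exact mul_inv_eq_iff_eq_mul.1 e

namespace D2

/-- The candidate for the column element, computed at the pair `(x, f)`. -/
noncomputable def pp (ψ : SLd d F →* G) (c : F) (E : Vc d F → Vc d F → G) (w x f : Vc d F) : G :=
  E (x + w) f * (E x f)⁻¹ * (ψ (tvS w ((c + 1) • f)))⁻¹

theorem pp_eq_1' : type_of% @pp.eq_1 := @pp.eq_1

theorem step (h : DL ψ t c E) {w x f y g : Vc d F} (k1 : Gn x f y g) (k2 : Gn (x + w) f y g)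
    (h1 : f ⬝ᵥ w = 0) (h2 : g ⬝ᵥ w = 0) : pp ψ c E w (x + y) (f + g) = pp ψ c E w x f := by
  obtain ⟨p1, p2, -⟩ := k1.pr h.toGI.toMd.toPar
  have gw : ((c + 1) • g) ⬝ᵥ w = 0 := by simp [h2]
  have c1 := h.fix p2 gw (by simp [k1.gy]) h2
  have c2 := h.fix p1 gw (by simp [k1.gx]) h1
  unfold pp
  rw [add_right_comm x y w, h.add _ _ _ _ k2, h.add _ _ _ _ k1, add_comm x w,
    tvS_add_left gw (by simp [k1.gx]), smul_add, tvS_add_right (by simp [h1]) gw, map_mul, map_mul]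
  generalize ψ (tvS w ((c + 1) • g)) = a at c1 c2 ⊢
  calc _ = E (w + x) f * (E y g * a * (E y g)⁻¹) * (E x f)⁻¹ * a⁻¹ *
        (ψ (tvS w ((c + 1) • f)))⁻¹ := by group
    _ = E (w + x) f * (a * (E x f)⁻¹ * a⁻¹) * (ψ (tvS w ((c + 1) • f)))⁻¹ := by
        rw [← c1.eq]; group
    _ = _ := by rw [c2.inv_right.eq]; group

theorem cancel (h : Par d F) (x y : Vc d F) : x + (x + y) = y := by
  ext i
  simp only [Pi.add_apply]
  linear_combination (x i) * h.two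

theorem indep (h : DL ψ t c E) {w x f x' f' : Vc d F} (k : Pr x f) (k' : Pr x' f')
    (h1 : f ⬝ᵥ w = 0) (h2 : f' ⬝ᵥ w = 0) (h3 : x + w ≠ 0) (h4 : x' + w ≠ 0) :
    pp ψ c E w x f = pp ψ c E w x' f' := by
  have hp := h.toGI.toMd.toPar
  obtain ⟨y, g, gw, a1, a2, a3, a4⟩ := nbr hp h.three k k' h1 h2 h3 h4
  have e1 := step h a1 a2 h1 (by simp [h1, gw])
  have e2 := step h a3 a4 h2 (by simp [h2, gw])
  rw [cancel hp, cancel hp] at e1 e2
  exact e1.symm.trans e2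

end D2

theorem DL.exists_P (h : DL ψ t c E) : ∃ P : Vc d F → G, ∀ w x f, Pr x f → x + w ≠ 0 → f ⬝ᵥ w = 0 →
    E (x + w) f = P w * ψ (tvS w ((c + 1) • f)) * E x f := by
  choose x₀ f₀ k₀ h₀ _ _ h₁ _ using fun w => aux h.toGI.toMd.toPar h.three w w 0
  refine ⟨fun w => D2.pp ψ c E w (x₀ w) (f₀ w), fun w x f k h1 h2 => ?_⟩
  simp only []
  rw [D2.indep h (k₀ w) k (h₀ w) h2 (h₁ w) h1, D2.pp]
  group

end Ext

end Cfsg.Lib.SPA
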