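import Cfsg.Agent.SPA.Defs
import Cfsg.Agent.SPN.GEN

/-!
# Symplectic bases and generation by their root elements
-/

set_option autoImplicit false
set_option linter.unusedSectionVars false
set_option linter.unusedVariables false

namespace Cfsg.Lib.SPA

open Subgroup Matrix Cfsg.Lib.Trans Cfsg.Lib.Gold Cfsg.Lib.Chev Cfsg.Lib.Class
  Cfsg.Lib.Class.Form Cfsg.Lib.Class.FAut
open Cfsg.Lib.UM (tT tE Ot)
open Cfsg.Lib.SPN (Mo O3 H1)
open Cfsg.Lib.SLA (I SLd Vc)
open scoped commutatorElement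

section ID
variable {F M : Type*} [Field F] [Finite F] [AddCommGroup M] [Module F M]
  [FiniteDimensional F M] {B : M →ₗ[F] M →ₗ[F] F} {d : ℕ} {v : I d → M}

theorem exists_SB (h : Mo B) (hd : d + 3 = 2 * UM.kk F M) : ∃ v : I d → M, SB B v := by
  obtain ⟨m, e, f, hs, hb, hm⟩ := Class.exists_isSympFam_top (B := B) ⟨h.cls.sep, h.cls.sep'⟩ h.alt
  have hm' : d + 3 = 2 * m := by rw [hd, ← h.rank_eq, hm]
  have n1 : (-1 : F) = 1 := neg_eq_of_add_eq_zero_left (h.add_self 1)
  refine ⟨fun i => if k : i.1 < m then e ⟨i.1, k⟩ else f ⟨d + 2 - i.1, by have := i.2; omega⟩,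
    fun a b => ?_, fun u hu => ?_⟩
  · have ha := a.2
    have hb := b.2
    simp only [Fin.ext_iff, Fin.val_rev]
    by_cases k1 : a.1 < m <;> by_cases k2 : b.1 < m
    · rw [dif_pos k1, dif_pos k2, hs.ee, if_neg (by omega)]
    · rw [dif_pos k1, dif_neg k2, hs.ef]
      exact if_congr (by simp only [Fin.ext_iff]; omega) rfl rfl
    · rw [dif_neg k1, dif_pos k2, hs.fe h.alt, n1]
      exact if_congr (by simp only [Fin.ext_iff]; omega) rfl rfl
    · rw [dif_neg k1, dif_neg k2, hs.ff, if_neg (by omega)]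
  · refine (Submodule.mem_bot F).1 (hb ▸ mem_sympPerp.2 ⟨fun i => ?_, fun i => ?_⟩)
    · have hi := i.2
      have := hu ⟨i.1, by omega⟩
      rwa [dif_pos hi] at this
    · have hi := i.2
      have := hu ⟨d + 2 - i.1, by omega⟩
      rw [dif_neg (by simp only; omega)] at this
      convert this
      simp only
      omega

theorem I3.exp (hv : SB B v) (x : M) : x = ∑ b, B (v b) x • v b.rev := by
  refine sub_eq_zero.1 (hv.ext _ fun a => ?_)
  simp only [map_sub, map_sum, map_smul, hv.form, Fin.rev_inj, smul_eq_mul, mul_ite, mul_one,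
    mul_zero, Finset.sum_ite_eq', Finset.mem_univ, if_true, sub_self]

theorem SB.gen (hv : SB B v) (h : Mo B) {S : Subgroup (sIsom B)}
    (h1 : ∀ i j, j ≠ i.rev → ∀ s : F, tE B (s • v i) (v j) ∈ S) (h2 : ∀ i (s : F), tT B (v i) s ∈ S) :
    S = ⊤ := by
  have kE : ∀ a x, B (v a) x = 0 → tE B (v a) x ∈ S → ∀ c, SPN.ee B (v a) x c ∈ S := by
    intro a x k hx c
    have := h.ee_mul k (map_zero _) 0 c
    rw [h.ee_zero, h.ee_zero', add_zero, zero_add, map_zero, add_zero] at this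
    exact this ▸ mul_mem hx (h2 a c)
  have kQ : ∀ a x, B (v a) x = 0 → ∀ c, SPN.ee B (v a) x c ∈ S := by
    intro a x k
    rw [I3.exp hv x]
    refine (Finset.sum_induction _ (fun y => B (v a) y = 0 ∧ ∀ c, SPN.ee B (v a) y c ∈ S)
      (fun y z hy hz => ⟨by rw [map_add, hy.1, hz.1, add_zero], fun c => ?_⟩)
      ⟨map_zero _, fun c => h.ee_zero' _ c ▸ h2 a c⟩ fun b _ => ?_).2
    · have := mul_mem (hy.2 (c + B y z)) (hz.2 0)
      rwa [h.ee_mul hy.1 hz.1, add_zero, add_assoc, h.add_self, add_zero] at this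
    · by_cases e : b = a
      · rw [e, k, zero_smul]
        exact ⟨map_zero _, fun c => h.ee_zero' _ c ▸ h2 a c⟩
      · have e' : b.rev ≠ a.rev := fun k => e (Fin.rev_inj.1 k)
        have k0 : B (v a) (v b.rev) = 0 := by rw [hv.form, if_neg e']
        have k1 : B (v a) (B (v b) x • v b.rev) = 0 := by rw [map_smul, k0, smul_zero]
        exact ⟨k1, kE a _ k1 (h.tE_smul k0 _ ▸ h1 a _ e' _)⟩
  refine h.gen_T fun u => ?_
  by_cases u0 : u = 0
  · rw [u0, h.tT_zero']
    exact one_mem _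
  obtain ⟨a, ha⟩ : ∃ a, B (v a) u ≠ 0 := by
    by_contra k
    push Not at k
    exact u0 (hv.ext u k)
  have f1 : B (v a) (v a.rev) = 1 := by rw [hv.form, if_pos rfl]
  have k : B (v a) ((B (v a) u)⁻¹ • u + v a.rev) = 0 := by
    rw [map_add, map_smul, f1, smul_eq_mul, inv_mul_cancel₀ ha, h.add_self]
  have e := h.lin_ee k (B ((B (v a) u)⁻¹ • u + v a.rev) (v a.rev)) (B (v a) u • v a.rev)
  rw [(B _).map_smul, (B _).map_smul, f1, smul_eq_mul, smul_eq_mul, mul_one, mul_comm, h.add_self, zero_smul,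
    add_zero, smul_add, smul_smul, mul_inv_cancel₀ ha, one_smul, add_comm u, ← add_assoc,
    h.vadd_self, zero_add] at e
  rw [← e, ← h.tT_conj, h.tT_smul]
  exact mul_mem (mul_mem (kQ a _ k _) (h2 _ _)) (inv_mem (kQ a _ k _))

end ID

end Cfsg.Lib.SPA
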