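import Cfsg.Agent.SPA.Defs
import Cfsg.Agent.SLA.K2
import Cfsg.Agent.SPN.P1b
import Cfsg.Agent.SPN.LIFT
import Cfsg.Agent.SPN.KIT

/-!
# The linear overgroups: the centraliser of `t` normalises the new group
-/

set_option autoImplicit false
set_option linter.unusedSectionVars false
set_option linter.unusedVariables false

namespace Cfsg.Lib.SPA

open Subgroup Matrix Cfsg.Lib.Trans Cfsg.Lib.Gold Cfsg.Lib.Chev Cfsg.Lib.Known Cfsg.Lib.Class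
  Cfsg.Lib.Class.Form Cfsg.Lib.Class.FAut
open Cfsg.Lib.UM (tT tE Ot)
open Cfsg.Lib.SPN (Mo O3 H1 TH T1 T3 G1 G2)
open Cfsg.Lib.SLA (I SLd Vc Par Md Ind El Fx Inr Ty IsTv ac gr lst z0 e0 f0 U0 P0 Q0 R0 V0 V1)
open Cfsg.Lib.SG2 (Uq Top)
open scoped commutatorElement

section ID
variable {G F M : Type*} [Group G] [Finite G] [Field F] [Finite F] [AddCommGroup M] [Module F M]
  [FiniteDimensional F M] {B : M →ₗ[F] M →ₗ[F] F} {φ : sIsom B →* G} {t : G} {H A : M → M → G}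
  {D : M → G} {β c : F} {d : ℕ} {v : I d → M} {ψ : SLd d F →* G}

namespace I5

theorem L_le (H : M → M → G) : φ.range ≤ G1 φ H := le_sup_left

theorem H_mem (H : M → M → G) (u w : M) : H u w ∈ G1 φ H :=
  mem_sup_right (subset_closure ⟨u, w, rfl⟩)

theorem G1_le {K : Subgroup G} (h1 : φ.range ≤ K) (h2 : ∀ u w, H u w ∈ K) : G1 φ H ≤ K :=
  sup_le h1 ((closure_le _).2 (by rintro _ ⟨u, w, rfl⟩; exact h2 u w))

theorem G2_le {K : Subgroup G} (h1 : G1 φ H ≤ K) (h2 : ∀ u, D u ∈ K) : G2 φ H D ≤ K :=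
  sup_le h1 ((closure_le _).2 (by rintro _ ⟨u, rfl⟩; exact h2 u))

end I5

open I5

theorem nL1 {κ : F} (h : TH φ t H κ β) : C1 t ≤ Ns (G1 φ H) := fun c hc => by
  have ct : Commute c t := mem_C1.1 hc
  obtain ⟨α, Γ, τ, k1, k2⟩ := h.toHyp.semi ct
  obtain ⟨s, hs⟩ := h.eqvC c ct α Γ τ k1 k2
  refine mem_normalizer_of_cj_le (cj_le_iff_le_cj_inv.2 (G1_le ?_ fun u w => mem_cj_inv.2 ?_))
  · rintro _ ⟨g, rfl⟩
    rw [mem_cj_inv, k1 g]
    exact L_le H ⟨_, rfl⟩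
  · by_cases e : B u w = 0
    · rw [hs u w e]
      exact mul_mem (H_mem H _ _) (L_le H ⟨_, rfl⟩)
    · rw [h.junk u w e, mul_one, mul_inv_cancel]
      exact one_mem _

theorem cO1 {κ : F} (h : TH φ t H κ β) : Ot φ t ≤ Cs (G1 φ H) :=
  le_Cs_comm.1 (G1_le SPN.L_le_Cs_Ot h.cO)

theorem nL2 (h : T3 φ t H D β) : C1 t ≤ Ns (G2 φ H D) := fun c hc => by
  have ct : Commute c t := mem_C1.1 hc
  obtain ⟨α, Γ, τ, k1, k2⟩ := h.toHyp.semi ct
  obtain ⟨s, hs⟩ := h.deqvC c ct α Γ τ k1 k2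
  refine mem_normalizer_of_cj_le (cj_le_iff_le_cj_inv.2 (G2_le ?_ fun u => mem_cj_inv.2 ?_))
  · rw [← cj_le_iff_le_cj_inv, mem_Ns_iff.1 (nL1 h.toTH hc)]
    exact le_sup_left
  · rw [hs u]
    exact mul_mem (mem_sup_right (subset_closure ⟨_, rfl⟩)) (mem_sup_left (L_le H ⟨_, rfl⟩))

theorem cO2 (h : T3 φ t H D β) : Ot φ t ≤ Cs (G2 φ H D) :=
  le_Cs_comm.1 (G2_le (le_Cs_comm.1 (cO1 h.toTH)) h.dO)

theorem mk_el (h : H1 φ t) (k : GI ψ t) (le : φ.range ≤ ψ.range) (cO : Ot φ t ≤ Cs ψ.range)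
    (nL : C1 t ≤ Ns ψ.range) (dim : d + 3 = 2 * UM.kk F M ∨ d + 3 = 2 * UM.kk F M + 1)
    (nb : Odd d → ¬ IsConj t (t * ψ (z0 d F))) : EL ψ t (UM.kk F M) where
  toGI := k
  t1 := h.t1
  nL := nL
  odd := h.odd_Cs le cO k.act.mem_Ns fun e => by
    have e1 := (k.toMd.ac_eq_one k.act.mem_Ns).2 e
    rw [k.toMd.ac_eq k.act] at e1
    have e2 : Ty (gr d F) 1 false := e1 ▸ SLA.ty_one
    exact absurd (SLA.Ty.uniq k.toMd.toPar SLA.ty_gr e2).2 (by decide)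
  dim := dim
  rank := fun g A hA hle => ((h.toHyp.cx g).jl hA hle).1
  perf := fun g Y hY hle => by
    have h1 := card_dvd_of_le ((h.toHyp.cx g).perf hY hle)
    obtain ⟨e⟩ := SPN.LIFT.iso_Sp h.toMo
    have := Fintype.ofFinite F
    rw [← Nat.card_congr (MonoidHom.ofInjective (h.toHyp.cx g).inj).toEquiv,
      Nat.card_congr e.toEquiv, card_symplecticGroup, ← Nat.card_eq_fintype_card] at h1
    exact h1
  nb := nb

end ID

end Cfsg.Lib.SPA
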