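import Cfsg.Agent.SPA.ZF
import Cfsg.Agent.SLA.ZS2

/-! Standard subgroups of type `Sp_{2k}(2ⁿ)`: fixed points of a graph-field involution. -/

set_option autoImplicit false
set_option linter.unusedSectionVars false
set_option linter.unusedVariables false

namespace Cfsg.Lib.SPA

open Subgroup Matrix Cfsg.Lib.Trans Cfsg.Lib.Gold Cfsg.Lib.Chev Cfsg.Lib.Known Cfsg.Lib.Class
  Cfsg.Lib.Class.Form Cfsg.Lib.Class.FAut
open Cfsg.Lib.SLA (I SLd Vc Par Md Ind El Fx Inr Ty IsTv ac gr lst z0 e0 f0 U0 P0 Q0 R0 V0 V1)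

section Aut
variable {d k : ℕ} {F : Type*} [Field F] [Finite F] {β : MulAut (SLd d F)} {σ : F ≃+* F}

namespace ZU

theorem even (h : Par d F) (ho : orderOf σ = 2) : ∃ m, 1 ≤ m ∧ Nat.card F = (2 ^ m) ^ 2 := by
  have := h.charP
  have := Fintype.ofFinite F
  have : Fact (Nat.Prime 2) := ⟨Nat.prime_two⟩
  let := ZMod.algebra F 2
  let τ : F ≃ₐ[ZMod 2] F := AlgEquiv.ofRingEquiv (f := σ) fun x =>
    DFunLike.congr_fun (RingHom.ext_zmod ((σ : F →+* F).comp (algebraMap (ZMod 2) F))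
      (algebraMap (ZMod 2) F)) x
  have h1 : orderOf τ = 2 := orderOf_eq_prime
    (AlgEquiv.ext fun x => by
      have := DFunLike.congr_fun (pow_orderOf_eq_one σ) x
      rw [ho] at this
      exact this)
    (fun e => by
      have : σ = 1 := RingEquiv.ext fun x => DFunLike.congr_fun e x
      rw [this, orderOf_one] at ho
      omega)
  have h2 := orderOf_dvd_natCard τ
  rw [h1, IsGalois.card_aut_eq_finrank] at h2
  obtain ⟨m, hm⟩ := h2
  have h3 : Nat.card F = 2 ^ Module.finrank (ZMod 2) F := by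
    rw [Module.natCard_eq_pow_finrank (K := ZMod 2), Nat.card_zmod]
  refine ⟨m, Nat.pos_of_ne_zero fun e => ?_, by rw [h3, hm, ← pow_mul, mul_comm]⟩
  have := Module.finrank_pos (R := ZMod 2) (M := F)
  omega

end ZU

theorem zs_gf (h : Par d F) (hk : 3 ≤ k) (hd : 2 * k ≤ d + 3) (h2 : β * β = 1)
    (h1 : Ty β σ true) (hσ : σ ≠ 1) : ∃ Y ≤ Fx β, ⁅Y, Y⁆ = Y ∧
      ∃ y ∈ Y, y ∉ center (SLd d F) ∧ (orderOf y).Coprime (spOrd (Nat.card F) k) := by
  have := Fintype.ofFinite F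
  have : Fact (Nat.Prime 2) := ⟨Nat.prime_two⟩
  obtain ⟨m, m1, hm⟩ := ZU.even h (orderOf_eq_prime (by rw [sq, h1.sq' h h2]) hσ)
  have c0 : Nat.card (GaloisField 2 m) = 2 ^ m := GaloisField.card 2 m (by omega)
  have h0 : Par d (GaloisField 2 m) := ⟨CharTwo.two_eq_zero, fun e => by omega⟩
  have q2 := h0.two_le
  rw [← c0] at hm
  obtain ⟨Y, e1, e2, e3⟩ := SLA.ZS2.su h0 h hm h2 h1 hσ
  generalize Nat.card (GaloisField 2 m) = q at hm q2 e3
  obtain ⟨j, rfl⟩ : ∃ j, k = j + 1 := ⟨k - 1, by omega⟩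
  obtain ⟨r, hr, ho⟩ := zsigmondy (a := q) (n := 2 * (2 * j + 1)) q2 (by omega)
    (fun e => by omega) (by omega)
  have k := SLA.ZS1.dvd_iff (by omega) ho
  refine ⟨Y, e1, e2, zs_fin hm hr hk ho (by omega) ⟨2, by omega⟩ (Dvd.dvd.trans ?_ e3)⟩
  rw [Nat.card_eq_fintype_card] at hm
  have h3 : r ∣ (q + 1) * Nat.card (SU (d + 3) F q) := by
    rw [Form.card_SU hm _ (by omega), Form.guOrder]
    refine Dvd.dvd.mul_left (Dvd.dvd.trans ?_ (Finset.dvd_prod_of_mem _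
      (Finset.mem_range.2 (show 2 * j < d + 3 by omega)))) _
    rw [if_pos ⟨j, by ring⟩]
    have h4 := (k _).2 dvd_rfl
    rw [mul_comm, pow_mul, ← one_pow 2, Nat.sq_sub_sq, hr.dvd_mul] at h4
    refine h4.resolve_right fun e => ?_
    have := Nat.le_of_dvd (by omega) ((k _).1 e)
    omega
  refine (hr.dvd_mul.1 h3).resolve_left fun e => ?_
  have := Nat.le_of_dvd two_pos ((k 2).1 (by
    rw [← one_pow 2, Nat.sq_sub_sq]; exact e.mul_right _))
  omega

end Aut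

end Cfsg.Lib.SPA
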