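import Cfsg.Agent.SPA.Defs
import Cfsg.Agent.SLA.PV
import Cfsg.Agent.SLA.CONN

/-!
# `SL_N(2)`: the group `Q₀` by matrix entries
-/

set_option autoImplicit false
set_option linter.unusedSectionVars false
set_option linter.unusedVariables false

namespace Cfsg.Lib.SPA

open Subgroup Matrix Cfsg.Lib.Trans Cfsg.Lib.Gold Cfsg.Lib.Chev Cfsg.Lib.Known Cfsg.Lib.Class
  Cfsg.Lib.Class.Form Cfsg.Lib.Class.FAut
open Cfsg.Lib.UM (tT tE Ot)
open Cfsg.Lib.SPN (Mo O3 H1 TH T1 T3 G1 G2)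
open Cfsg.Lib.SLA (I SLd Vc Par Md Ind El Fx Inr Ty IsTv ac gr lst z0 e0 f0 U0 P0 Q0 R0 V0 V1)
open Cfsg.Lib.SG2 (Uq Top)
open scoped commutatorElement

variable {d : ℕ} {F : Type*} [Field F] [Finite F] {v b : SLd d F} {N : Subgroup (SLd d F)}

namespace Q2

theorem d0 {f : Vc d F} (hf : f 0 = 0) : f ⬝ᵥ e0 d F = 0 := (SLA.dot_e0 f).trans hf

theorem d1 {w : Vc d F} (hw : w (lst d) = 0) : f0 d F ⬝ᵥ w = 0 := (SLA.f0_dot w).trans hw

theorem entL {w : Vc d F} (hw : w (lst d) = 0) (m : SLd d F) (i j : I d) :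
    (tvS w (f0 d F) * m).1 i j = m.1 i j + w i * m.1 (lst d) j := by
  rw [SLA.val_mul, tvS_coe (d1 hw), Matrix.add_mul, Matrix.one_mul, vecMulVec_mul, Matrix.add_apply,
    vecMulVec_apply, f0, single_one_vecMul]
  rfl

theorem entR {f : Vc d F} (hf : f 0 = 0) (m : SLd d F) (i j : I d) :
    (m * tvS (e0 d F) f).1 i j = m.1 i j + m.1 i 0 * f j := by
  rw [SLA.val_mul, tvS_coe (d0 hf), Matrix.mul_add, Matrix.mul_one, mul_vecMulVec, Matrix.add_apply,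
    vecMulVec_apply, e0, mulVec_single_one]
  rfl

theorem ent0 {f : Vc d F} (hf : f 0 = 0) (i j : I d) :
    (tvS (e0 d F) f).1 i j = (1 : Matrix (I d) (I d) F) i j + e0 d F i * f j := by
  rw [tvS_coe (d0 hf), Matrix.add_apply, vecMulVec_apply]

theorem ent {f w : Vc d F} (hf : f 0 = 0) (hw : w (lst d) = 0) (i j : I d) :
    (tvS (e0 d F) f * tvS w (f0 d F)).1 i j = (1 : Matrix (I d) (I d) F) i j + w i * f0 d F j +
      e0 d F i * (f j + (f ⬝ᵥ w) * f0 d F j) := by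
  rw [SLA.val_mul, tvS_coe (d0 hf), Matrix.add_mul, Matrix.one_mul, vecMulVec_mul, Matrix.add_apply,
    vecMulVec_apply, vecMul_tvS (d1 hw), tvS_coe (d1 hw), Matrix.add_apply, vecMulVec_apply]
  rfl

theorem e0_ne {i : I d} (h : i ≠ 0) : e0 d F i = 0 := Pi.single_eq_of_ne h _

theorem f0_ne {i : I d} (h : i ≠ lst d) : f0 d F i = 0 := Pi.single_eq_of_ne h _

theorem e0_0 : e0 d F 0 = 1 := Pi.single_eq_same _ _

theorem f0_l : f0 d F (lst d) = 1 := Pi.single_eq_same _ _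

/-- first row entries -/
theorem ent_row {f w : Vc d F} (hf : f 0 = 0) (hw : w (lst d) = 0) {j : I d} (hj : Mi j) :
    (tvS (e0 d F) f * tvS w (f0 d F)).1 0 j = f j := by
  rw [ent hf hw, f0_ne hj.2, e0_0, one_apply_ne hj.1.symm]; ring

/-- last column entries -/
theorem ent_col {f w : Vc d F} (hf : f 0 = 0) (hw : w (lst d) = 0) {i : I d} (hi : Mi i) :
    (tvS (e0 d F) f * tvS w (f0 d F)).1 i (lst d) = w i := by
  rw [ent hf hw, e0_ne hi.1, f0_l, one_apply_ne hi.2]; ring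

theorem entZ (hv : v ∈ R0 d F) {i j : I d} (k : i ≠ 0 ∨ j ≠ lst d) :
    v.1 i j = (1 : Matrix (I d) (I d) F) i j := by
  obtain ⟨s, rfl⟩ := (SLA.mem_Rt SLA.zero_ne_lst).1 hv
  rw [coe_slE SLA.zero_ne_lst, Matrix.add_apply, single_apply_of_ne, add_zero]
  exact fun ⟨x, y⟩ => k.elim (fun n => n x.symm) fun n => n y.symm

theorem memR0 {f : Vc d F} (hf : f 0 = 0) (k : ∀ j, Mi j → f j = 0) : tvS (e0 d F) f ∈ R0 d F := by
  have e : f = Pi.single (lst d) (f (lst d)) := funext fun j => by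
    by_cases n : j = lst d
    · rw [n, Pi.single_eq_same]
    · rw [Pi.single_eq_of_ne n]
      by_cases n0 : j = 0
      exacts [n0 ▸ hf, k j ⟨n0, n⟩]
  exact (SLA.mem_Rt SLA.zero_ne_lst).2 ⟨f (lst d), by
    rw [SLA.slE_eq_tvS SLA.zero_ne_lst, ← e]; rfl⟩

theorem memR1 {w : Vc d F} (hw : w (lst d) = 0) (k : ∀ j, Mi j → w j = 0) :
    tvS w (f0 d F) ∈ R0 d F := by
  have e : w = w 0 • e0 d F := funext fun j => by
    by_cases n0 : j = 0
    · rw [n0, Pi.smul_apply, e0_0, smul_eq_mul, mul_one]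
    · rw [Pi.smul_apply, e0_ne n0, smul_zero]
      by_cases n : j = lst d
      exacts [n ▸ hw, k j ⟨n0, n⟩]
  rw [e, tvS_smul_left _ SLA.PF_f0_e0]
  exact memR0 (by rw [Pi.smul_apply, f0_ne SLA.zero_ne_lst, smul_zero]) fun j hj => by
    rw [Pi.smul_apply, f0_ne hj.2, smul_zero]

theorem cj0 {p : SLd d F} (hp : p ∈ P0 d F) {f : Vc d F} (hf : f 0 = 0) :
    p * tvS (e0 d F) f * p⁻¹ = tvS (e0 d F) (f ᵥ* (p⁻¹).1) := by
  rw [conj_tvS p (d0 hf), SLA.mem_St0.1 (mem_inf.1 hp).1]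

theorem cj1 {p : SLd d F} (hp : p ∈ P0 d F) {w : Vc d F} (hw : w (lst d) = 0) :
    p * tvS w (f0 d F) * p⁻¹ = tvS (p.1 *ᵥ w) (f0 d F) := by
  rw [conj_tvS p (d1 hw), SLA.mem_St1.1 (mem_inf.1 (inv_mem hp)).2]

theorem inv_slE (h : Par d F) {i j : I d} (n : i ≠ j) (s : F) : (slE i j s : SLd d F)⁻¹ = slE i j s :=
  inv_eq_of_mul_eq_one_right (h.slE_sq n s)

theorem vm {c e : I d} (n : c ≠ e) (f : Vc d F) :
    f ᵥ* (slE c e (1 : F) : SLd d F).1 = f + f c • Pi.single e 1 := by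
  rw [SLA.slE_eq_tvS n, vecMul_tvS (by simp [n]), dotProduct_single, mul_one]

theorem mv {c e : I d} (n : c ≠ e) (w : Vc d F) :
    (slE c e (1 : F) : SLd d F).1 *ᵥ w = w + w e • Pi.single c 1 := by
  rw [SLA.slE_eq_tvS n, tvS_mulVec (by simp [n]), single_dotProduct, one_mul]

theorem v1 : ((1 : I d) : ℕ) = 1 := rfl
theorem v2 : ((2 : I d) : ℕ) = 2 := rfl

end Q2

open Q2

theorem mem_Q_iff (h : Par d F) (hv : v ∈ P0 d F) : v ∈ Q0 d F ↔
    ∀ i j, Mi i → Mi j → v.1 i j = (1 : Matrix (I d) (I d) F) i j := by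
  refine ⟨fun k i j hi hj => ?_, fun k => ?_⟩
  · obtain ⟨f, w, hf, hw, rfl⟩ := h.mem_Q.1 k
    rw [ent hf hw, e0_ne hi.1, f0_ne hj.2]; ring
  · obtain ⟨x, hx, y, hy, e⟩ := SLA.PF_dec hv
    have hp := mul_mem hv (SLA.U_le_P (SLA.Aj_le_U _ hx))
    have e1 : y * (v * x) = 1 := Subtype.ext (Matrix.ext fun i j => by
      by_cases hi : Mi i
      · by_cases hj : Mi j
        · obtain ⟨w, hw, rfl⟩ := SLA.mem_V1.1 hy
          rw [entL hw, SLA.PF_St1.1 (mem_inf.1 hp).2, one_apply_ne hj.2.symm, mul_zero, add_zero]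
          obtain ⟨f, hf, rfl⟩ := SLA.mem_V0.1 hx
          rw [entR hf, SLA.PF_St0.1 (mem_inf.1 hv).1, one_apply_ne hi.1, zero_mul, add_zero]
          exact k i j hi hj
        · exact e i j (.inr hj)
      · exact e i j (.inl hi))
    have e2 : v = y⁻¹ * x⁻¹ := by
      rw [eq_mul_inv_iff_mul_eq, eq_inv_iff_mul_eq_one, mul_eq_one_comm, e1]
    rw [e2]
    exact mul_mem (inv_mem (mem_sup_right hy)) (inv_mem (mem_sup_left hx))

theorem slE_mem_P {i j : I d} (h : i ≠ j) (hi : i ≠ lst d) (hj : j ≠ 0) (s : F) :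
    slE i j s ∈ P0 d F := mem_inf.2 ⟨SLA.slE_mem_St0 h hj s, SLA.slE_mem_St1 h hi s⟩

theorem slE_mem_Q {i j : I d} (h : i ≠ j) (k : i = 0 ∨ j = lst d) (s : F) : slE i j s ∈ Q0 d F := by
  rcases k with rfl | rfl
  · exact mem_sup_left (SLA.slE_mem_Aj Nat.one_pos (Fin.pos_iff_ne_zero.2 h.symm) s)
  · exact mem_sup_right (SLA.slE_mem_Aj (Fin.val_lt_last h) le_rfl s)

theorem gen_Q (N : Subgroup (SLd d F)) (h1 : ∀ j, j ≠ 0 → ∀ s, slE 0 j s ∈ N)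
    (h2 : ∀ i, i ≠ lst d → ∀ s, slE i (lst d) s ∈ N) : Q0 d F ≤ N := by
  refine sup_le (SLA.closure_Aj _ fun a c k1 k2 s => ?_) (SLA.closure_Aj _ fun a c k1 k2 s => ?_)
  · obtain rfl : a = 0 := Fin.ext (by rw [Fin.val_zero]; omega)
    exact h1 c (fun e => by rw [e, Fin.val_zero] at k2; omega) s
  · obtain rfl : c = lst d := Fin.ext (by have := c.2; rw [Fin.val_last]; omega)
    exact h2 a (fun e => by rw [e, Fin.val_last] at k1; omega) s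

theorem Q2.cjE (h : Par d F) {c e : I d} (n : c ≠ e) (hc : c ≠ lst d) (he : e ≠ 0) {f w : Vc d F}
    (hf : f 0 = 0) (hw : w (lst d) = 0) :
    slE c e 1 * (tvS (e0 d F) f * tvS w (f0 d F)) * (slE c e 1)⁻¹ =
      tvS (e0 d F) (f + f c • Pi.single e 1) * tvS (w + w e • Pi.single c 1) (f0 d F) := by
  have hp := slE_mem_P n hc he (1 : F)
  rw [← vm n, ← mv n, ← cj1 hp hw]
  conv_rhs => rw [← inv_slE h n, ← cj0 hp hf, inv_slE h n]
  rw [inv_slE h n]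
  simp only [mul_assoc]
  rw [← mul_assoc (slE c e 1) (slE c e 1), h.slE_sq n, one_mul]

theorem P2.fq (h : P2 d F) (hv : v ∈ Q0 d F) (h1 : v ∉ R0 d F) :
    ∃ b ∈ Q0 d F, b * v * b⁻¹ = v * z0 d F := by
  obtain ⟨f, w, hf, hw, rfl⟩ := h.toPar.mem_Q.1 hv
  by_cases k : ∀ j, Mi j → f j = 0
  · by_cases k' : ∀ j, Mi j → w j = 0
    · exact absurd (mul_mem (memR0 hf k) (memR1 hw k')) h1
    · simp only [not_forall] at k'
      obtain ⟨j, hj, n⟩ := k'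
      refine ⟨_, slE_mem_Q hj.1.symm (.inl rfl) 1, ?_⟩
      rw [Q2.cjE h.toPar hj.1.symm SLA.zero_ne_lst hj.1 hf hw, hf, zero_smul, add_zero,
        (h.q2 _).resolve_left n, one_smul, SLA.z0_eq_tvS, mul_assoc,
        ← tvS_add_left (d1 hw) SLA.PF_f0_e0]
      rfl
  · simp only [not_forall] at k
    obtain ⟨j, hj, n⟩ := k
    refine ⟨_, slE_mem_Q hj.2 (.inr rfl) 1, ?_⟩
    rw [Q2.cjE h.toPar hj.2 hj.2 SLA.zero_ne_lst.symm hf hw, hw, zero_smul, add_zero,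
      (h.q2 _).resolve_left n, one_smul, SLA.z0_eq_tvS, mul_assoc,
      tvS_commute (d1 hw) SLA.PF_f0_e0 SLA.PF_f0_e0 (d1 hw), ← mul_assoc,
      ← tvS_add_right (d0 hf) SLA.PF_f0_e0]
    rfl

theorem P2.f6 (h : P2 d F) (hv : v ∈ P0 d F) (h1 : v ∉ Q0 d F) :
    ∃ a ∈ V0 d F, a ∉ R0 d F ∧ ⁅a, v⁆ ∈ V0 d F ∧ ⁅a, v⁆ ∉ R0 d F := by
  have k := mt (mem_Q_iff h.toPar (inv_mem hv)).2 fun e => h1 (inv_mem_iff.1 e)
  simp only [not_forall] at k
  obtain ⟨i, j, hi, hj, n⟩ := k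
  have a0 : (Pi.single i 1 : Vc d F) 0 = 0 := Pi.single_eq_of_ne hi.1.symm _
  have a1 : (Pi.single i 1 ᵥ* (v⁻¹).1 : Vc d F) 0 = 0 := by
    rw [single_one_vecMul]
    exact (SLA.PF_St0.1 (mem_inf.1 (inv_mem hv)).1 i).trans (one_apply_ne hi.1)
  have a2 : (Pi.single i 1 + Pi.single i 1 ᵥ* (v⁻¹).1 : Vc d F) 0 = 0 := by
    rw [Pi.add_apply, a0, a1, add_zero]
  have e : ⁅tvS (e0 d F) (Pi.single i 1), v⁆ =
      tvS (e0 d F) (Pi.single i 1 + Pi.single i 1 ᵥ* (v⁻¹).1) := by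
    have := inv_slE h.toPar hi.1.symm (1 : F)
    rw [SLA.slE_eq_tvS hi.1.symm] at this
    rw [tvS_add_right (d0 a0) (d0 a1), ← cj0 hv a0, commutatorElement_def]
    erw [this]
    simp only [mul_assoc]
    rfl
  refine ⟨_, SLA.mem_V0.2 ⟨_, a0, rfl⟩, fun r => ?_, SLA.mem_V0.2 ⟨_, a2, e⟩, fun r => n ?_⟩
  · have := entZ r (i := 0) (.inr hi.2)
    rw [ent0 a0, e0_0, Pi.single_eq_same, one_mul, add_eq_left] at this
    exact one_ne_zero this
  · have := entZ r (i := 0) (.inr hj.2)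
    rw [e, ent0 a2, e0_0, one_mul, add_eq_left, Pi.add_apply, single_one_vecMul] at this
    have e1 : (Pi.single i 1 : Vc d F) j = (1 : Matrix (I d) (I d) F) i j := by
      rw [one_apply, Pi.single_apply]; exact if_congr eq_comm rfl rfl
    rw [e1] at this
    have e2 : (v⁻¹).1.row i j = (v⁻¹).1 i j := rfl
    rw [e2] at this
    linear_combination this - ((1 : Matrix (I d) (I d) F) i j) * h.two

theorem P2.ua_spec (h : P2 d F) : ua d F ∈ Q0 d F ∧ ua d F * ua d F = 1 ∧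
    ∃ x, gr d F x * x⁻¹ = ua d F := by
  have := h.three
  have n1 : (1 : I d) ≠ lst d := Fin.ne_of_val_ne (by rw [v1, Fin.val_last]; omega)
  have n2 : (0 : I d) ≠ Fin.rev 1 := Fin.ne_of_val_ne (by rw [Fin.val_rev, v1, Fin.val_zero]; omega)
  have n3 : (1 : I d) ≠ Fin.rev 1 := Fin.ne_of_val_ne (by rw [Fin.val_rev, v1]; omega)
  refine ⟨mul_mem (slE_mem_Q n1 (.inr rfl) 1) (slE_mem_Q n2 (.inl rfl) 1), ?_,
    slE 0 (Fin.rev 1) 1, ?_⟩
  · rw [ua, mul_assoc, ← mul_assoc (slE 0 _ _),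
      ← (stA_slE.commute _ _ _ _ n1 n2 SLA.zero_ne_lst.symm n3 1 1).eq, mul_assoc, h.slE_sq n2,
      mul_one, h.slE_sq n1]
  · rw [h.gr_slE n2, inv_slE h.toPar n2, Fin.rev_rev, Fin.rev_zero, ua]

theorem P2.wa_spec (h : P2 d F) : wa d F ∈ P0 d F ∧ wa d F * wa d F = 1 ∧ wa d F ∉ Q0 d F ∧
    ∃ x ∈ P0 d F, gr d F x * x⁻¹ = wa d F := by
  have := h.three
  have n1 : (2 : I d) ≠ Fin.rev 1 := Fin.ne_of_val_ne (by rw [Fin.val_rev, v1, v2]; omega)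
  have n2 : (1 : I d) ≠ Fin.rev 2 := Fin.ne_of_val_ne (by rw [Fin.val_rev, v1, v2]; omega)
  have n3 : (Fin.rev 1 : I d) ≠ 1 := Fin.ne_of_val_ne (by rw [Fin.val_rev, v1]; omega)
  have n4 : (2 : I d) ≠ Fin.rev 2 := Fin.ne_of_val_ne (by rw [Fin.val_rev, v2]; omega)
  have m1 : Mi (1 : I d) := ⟨Fin.ne_of_val_ne (by rw [v1, Fin.val_zero]; omega),
    Fin.ne_of_val_ne (by rw [v1, Fin.val_last]; omega)⟩
  have m2 : Mi (2 : I d) := ⟨Fin.ne_of_val_ne (by rw [v2, Fin.val_zero]; omega),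
    Fin.ne_of_val_ne (by rw [v2, Fin.val_last]; omega)⟩
  have m3 : Mi (Fin.rev 1 : I d) := ⟨Fin.ne_of_val_ne (by rw [Fin.val_rev, v1, Fin.val_zero]; omega),
    Fin.ne_of_val_ne (by rw [Fin.val_rev, v1, Fin.val_last]; omega)⟩
  have m4 : (Fin.rev 2 : I d) ≠ 0 := Fin.ne_of_val_ne (by rw [Fin.val_rev, v2, Fin.val_zero]; omega)
  have n5 : (1 : I d) ≠ 2 := Fin.ne_of_val_ne (by rw [v1, v2]; omega)
  have p1 := slE_mem_P n1 m2.2 m3.1 (1 : F)
  have p2 := slE_mem_P n2 m1.2 m4 (1 : F)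
  refine ⟨mul_mem p1 p2, ?_, fun k => ?_, _, p2, ?_⟩
  · rw [wa, mul_assoc, ← mul_assoc (slE 1 _ _),
      ← (stA_slE.commute _ _ _ _ n1 n2 n3 n4 1 1).eq, mul_assoc, h.slE_sq n2, mul_one, h.slE_sq n1]
  · have e := (mem_Q_iff h.toPar (mul_mem p1 p2)).1 k _ _ m2 m3
    rw [SLA.val_mul, coe_slE n1, coe_slE n2, Matrix.add_mul, Matrix.one_mul, Matrix.mul_add,
      Matrix.mul_one, single_mul_single_of_ne _ _ _ _ n3, add_zero, Matrix.add_apply,
      Matrix.add_apply, single_apply_of_row_ne n5, single_apply_same, add_zero, add_eq_left] at e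
    exact one_ne_zero e
  · rw [h.gr_slE n2, inv_slE h.toPar n2, Fin.rev_rev, wa]

theorem P2.not_le (h : P2 d F) : ¬ U0 d F ≤ Q0 d F := fun k => by
  have := h.three
  have n5 : (1 : I d) < 2 := by rw [Fin.lt_def, v1, v2]; omega
  have m1 : Mi (1 : I d) := ⟨Fin.ne_of_val_ne (by rw [v1, Fin.val_zero]; omega),
    Fin.ne_of_val_ne (by rw [v1, Fin.val_last]; omega)⟩
  have m2 : Mi (2 : I d) := ⟨Fin.ne_of_val_ne (by rw [v2, Fin.val_zero]; omega),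
    Fin.ne_of_val_ne (by rw [v2, Fin.val_last]; omega)⟩
  have u := SLA.slE_mem_U n5 (1 : F)
  have e := (mem_Q_iff h.toPar (SLA.U_le_P u)).1 (k u) _ _ m1 m2
  rw [coe_slE n5.ne, Matrix.add_apply, single_apply_same, add_eq_left] at e
  exact one_ne_zero e

end Cfsg.Lib.SPA
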