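import Cfsg.Agent.SPA.FM
import Cfsg.Agent.SPA.E2
import Cfsg.Agent.SPA.Q1
import Cfsg.Agent.SPA.Q2
import Cfsg.Agent.SPA.Q4
import Cfsg.Agent.SPA.Q5
import Cfsg.Agent.SLA.P1a
import Cfsg.Agent.AE.F3
import Cfsg.Agent.SLA.P1o

/-! Standard subgroups of type `Sp_{2k}(2ⁿ)`: the linear end game. -/

set_option autoImplicit false
set_option linter.unusedSectionVars false
set_option linter.unusedVariables false

namespace Cfsg.Lib.SPA

open Subgroup Matrix Cfsg.Lib.Trans Cfsg.Lib.Gold Cfsg.Lib.Chev Cfsg.Lib.Known Cfsg.Lib.Class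
  Cfsg.Lib.Class.Form Cfsg.Lib.Class.FAut
open Cfsg.Lib.SLA (I SLd Vc Par Md Ind El Fx Inr Ty IsTv ac gr lst z0 e0 f0 U0 P0 Q0 R0 V0 V1)
open Cfsg.Lib.SG2 (Uq Top)
open scoped commutatorElement

section End
variable {G : Type*} [Group G] [Finite G] {d k : ℕ} {F : Type*} [Field F] [Finite F]
  {ψ : SLd d F →* G} {t : G} {X : Subgroup G}

namespace FE

theorem sh (h : GI ψ t) (x : SLd d F) : ψ x * t * (ψ x)⁻¹ = t * ψ (gr d F x * x⁻¹) := by
  rw [map_mul, map_inv, ← h.act x]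
  have : t * (t * ψ x * t⁻¹ * (ψ x)⁻¹) = (t * t) * ψ x * t⁻¹ * (ψ x)⁻¹ := by group
  rw [this, h.t2, one_mul, inv_eq_of_mul_eq_one_right h.t2]

theorem cm {D : Subgroup (SLd d F)} {N : Subgroup G} (h : D.map ψ ≤ Ns N) : D ≤ Ns (N.comap ψ) :=
  fun x hx => mem_normalizer_iff.2 fun y => by
    rw [mem_comap, mem_comap, map_mul, map_mul, map_inv]
    exact mem_normalizer_iff.1 (h (mem_map_of_mem ψ hx)) _

end FE

theorem EL.fe (h : EL ψ t k) (hX : Top X t) (h2 : P2 d F) :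
    AE.FE X ψ.range ((U0 d F).map ψ) ((P0 d F).map ψ) ((Q0 d F).map ψ) ((R0 d F).map ψ)
      (ψ (z0 d F)) t (ψ (ua d F)) (ψ (wa d F)) where
  toFM := fm h.toMd h2
  normal := hX.normal
  simple := hX.simple
  perfX := hX.perf
  le := SLA.top_le hX h.toMd.perf
  syl := h.syl hX
  two _ := h.two_mem hX
  t2 := h.t2
  tM := h.act.mem_Ns
  uq := h.uq
  tz := Comp.comm_of_conj_eq (by rw [h.act, h.toPar.gr_z0])
  tR := mem_Ns_iff.2 (by rw [h.act.map, h.toPar.mp_gr_R0])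
  cls v hv v2 := by
    obtain ⟨x, hx, rfl⟩ := h.toMd.lift2 hv v2
    obtain ⟨l, hl⟩ := h2.cls hx
    exact ⟨ψ l, ⟨l, rfl⟩, Comp.comm_of_conj_eq (by
      rw [← map_inv, ← map_mul, ← map_mul, h.act, hl])⟩
  uQ := mem_map_of_mem ψ h2.ua_spec.1
  u2 := by rw [← map_mul, h2.ua_spec.2.1, map_one]
  tu := let ⟨x, e⟩ := h2.ua_spec.2.2
    ⟨ψ x, SLA.psi_mem_Ns x, e ▸ FE.sh h.toGI x⟩
  nu N h1 hu := map_le_iff_le_comap.2 (h2.nu (FE.cm h1) hu)
  wP := mem_map_of_mem ψ h2.wa_spec.1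
  w2 := by rw [← map_mul, h2.wa_spec.2.1, map_one]
  tw := let ⟨x, hx, e⟩ := h2.wa_spec.2.2.2
    ⟨ψ x, mem_map_of_mem ψ hx, e ▸ FE.sh h.toGI x⟩
  nw N h1 hQ hw := by
    have QP : Q0 d F ≤ P0 d F := by
      have a := fm (ψ := MonoidHom.id (SLd d F)) ⟨h.toPar, SLA.z0_ne⟩ h2
      simpa using a.QU.trans a.UP
    have hn : P0 d F ≤ Ns (N.comap ψ ⊓ P0 d F) := fun x hx => mem_normalizer_iff.2 fun y =>
      and_congr (mem_normalizer_iff.1 (FE.cm h1 hx) y) (mem_normalizer_iff.1 (le_normalizer hx) y)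
    rcases h2.qs (le_inf (map_le_iff_le_comap.1 hQ) QP) inf_le_right hn with e | e
    · exact absurd (e.le ⟨hw, h2.wa_spec.1⟩) h2.wa_spec.2.2.1
    · exact map_le_iff_le_comap.2 (e.ge.trans inf_le_left)

theorem EL.iso (h : EL ψ t k) (hX : Top X t) :
    Nonempty (X ≃* ProjectiveSpecialLinearGroup (Fin (d + 3)) F) := by
  obtain ⟨n, n1, hn⟩ := h.toPar.pow
  rcases n1.eq_or_lt with rfl | n2
  · have q2 : ∀ c : F, c = 0 ∨ c = 1 := fun c => by
      by_contra hc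
      rw [not_or] at hc
      have := Fintype.ofFinite F
      classical
      have : ({0, 1, c} : Finset F).card ≤ Nat.card F := by
        rw [Nat.card_eq_fintype_card]; exact Finset.card_le_univ _
      rw [Finset.card_eq_three.2 ⟨0, 1, c, zero_ne_one, Ne.symm hc.1, Ne.symm hc.2, rfl⟩, hn] at this
      omega
    have e := (h.fe hX ⟨h.toPar, h.three, q2⟩).eq
    have hz := center_bot (d := d) q2
    have inj : Function.Injective ψ := (MonoidHom.ker_eq_bot_iff ψ).1 (le_bot_iff.1 (hz ▸ h.toMd.ker_le))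
    exact ⟨(MulEquiv.subgroupCongr e.symm).trans ((MonoidHom.ofInjective inj).symm.trans
      ((QuotientGroup.quotientBot.symm).trans (QuotientGroup.quotientMulEquivOfEq hz.symm)))⟩
  · exact h.iso4 hX (by rw [hn]; exact Nat.pow_le_pow_right two_pos (show 2 ≤ n from n2))

end End

end Cfsg.Lib.SPA
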