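import Cfsg.Agent.SPA.Defs
import Cfsg.Agent.SLA.EFa

/-! The involutions of graph type. -/

set_option autoImplicit false
set_option linter.unusedSectionVars false
set_option linter.unusedVariables false

namespace Cfsg.Lib.SPA

open Subgroup Matrix Cfsg.Lib.Trans Cfsg.Lib.Gold Cfsg.Lib.Chev Cfsg.Lib.Known Cfsg.Lib.Class
open Cfsg.Lib.SLA
open Cfsg.Lib.SLA.EFa
open scoped commutatorElement

variable {G : Type*} [Group G] [Finite G] {d k : ℕ} {F : Type*} [Field F] [Finite F]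
  {ψ : SLd d F →* G} {t : G} {X : Subgroup G}

theorem E1.inr (h : Par d F) {c : GL (I d) F}
    (hi : Inr (gr d F * (conjSL (I d) F c * gr d F * (conjSL (I d) F c)⁻¹))) :
    Inr (conjSL (I d) F c) := by
  have h3 := CL_inr (τ := gr d F) (γ := 1) (by simpa using hi)
  rw [inv_one, one_mul] at h3
  obtain ⟨J, -, -, hJ⟩ := exists_J (d := d) (F := F)
  rw [hJ, ← map_inv, ← mul_assoc, ← mul_assoc, ← map_mul,
    mul_assoc (conjSL _ _ _), graphSL_mul_conjSL, ← mul_assoc, ← map_mul,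
    mul_assoc (conjSL _ _ _), graphSL_mul_conjSL, ← mul_assoc, ← map_mul, mul_assoc,
    graphSL_mul_self, mul_one] at h3
  obtain ⟨a, ha⟩ := det_of_inr h3
  obtain ⟨s, rfl⟩ := h.sqrt a
  refine inr_of_det (s := s) (h.sq_inj ?_)
  rw [← mul_pow, ← ha, ← GeneralLinearGroup.val_det_apply, ← GeneralLinearGroup.val_det_apply,
    ← Units.val_mul]
  simp only [map_mul, det_invT, map_inv, inv_inv]
  rw [mul_right_comm _ _ (GeneralLinearGroup.det J)⁻¹, mul_inv_cancel_right]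

theorem cl_gr (h : Par d F) {β : MulAut (SLd d F)} (h2 : β * β = 1) (hi : Inr (gr d F * β)) :
    ∃ l, MulAut.conj l * β * (MulAut.conj l)⁻¹ = gr d F ∨
      (Odd d ∧ MulAut.conj l * β * (MulAut.conj l)⁻¹ = MulAut.conj (z0 d F) * gr d F) := by
  have h1 : Ty β 1 true := by
    have := ty_gr.mul hi.ty
    rwa [← mul_assoc, gr_mul_self, one_mul, mul_one] at this
  obtain ⟨c, rfl | ⟨e, rfl⟩⟩ := h.nf_graph h2 h1
  · obtain ⟨l, hl⟩ := (E1.inr h hi).inv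
    exact ⟨l, Or.inl (by rw [← hl]; group)⟩
  · have h3 : Inr (gr d F * conjSL (I d) F c * MulAut.conj (z0 d F) *
        (gr d F * conjSL (I d) F c)⁻¹) := Inr.conj ⟨_, rfl⟩ _
    obtain ⟨l, hl⟩ := (E1.inr h (c := c) (by
      convert h3.inv.mul hi using 1
      group)).inv
    exact ⟨l, Or.inr ⟨e, by rw [← hl]; group⟩⟩

theorem GI.th (h : GI ψ t) : Th ψ t 1 true :=
  ⟨h.act.mem_Ns, by rw [h.toMd.ac_eq h.act]; exact ty_gr⟩

theorem EL.conj_t (h : EL ψ t k) {u : G} (e : Th ψ u 1 true) (hu : IsConj t u) :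
    ∃ c ∈ ψ.range ⊔ Cs ψ.range ⊔ zpowers (t * u), c * u * c⁻¹ = t := by
  have md := h.toMd
  have tt := h.toGI.th
  have u2 : u * u = 1 := by
    obtain ⟨c, rfl⟩ := isConj_iff.1 hu
    exact Comp.conj_sq h.t2 c
  have h1 := tt.mul md e
  rw [mul_one, Bool.xor_self] at h1
  obtain ⟨_, ⟨i, rfl⟩, h2⟩ := h1.ty.odd md.toPar
  obtain ⟨θ, hθ⟩ := md.exists_acH
  have h3 : ac ψ (t * u) ^ (2 * i + 1) = ac ψ ((t * u) ^ (2 * i + 1)) := by
    rw [← hθ ⟨_, h1.mem⟩, ← map_pow, hθ]; rfl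
  have hr : (t * u) ^ i ∈ zpowers (t * u) := npow_mem_zpowers _ i
  have h4 : (t * u) ^ (2 * i + 1) = t * (((t * u) ^ i)⁻¹ * u * ((t * u) ^ i)⁻¹⁻¹) := by
    have := GC.inv_pow (a := t) (by
      rw [← mul_assoc, h.t2, one_mul, _root_.mul_inv_rev, inv_eq_of_sq u2]) (inv_mem hr)
    rw [show 2 * i + 1 = i + 1 + i by ring, pow_add, pow_succ]
    conv_lhs => rw [← _root_.inv_inv ((t * u) ^ i), ← this]
    rw [← this]
    group
  have hN := pow_mem h1.mem i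
  generalize (t * u) ^ i = r at hr h4 hN
  have h5 := Th.conj md e (inv_mem hN)
  have h6 := Comp.conj_sq u2 r⁻¹
  rw [h3, h4, md.ac_mul tt.mem h5.mem, md.ac_eq h.act] at h2
  obtain ⟨l, hl⟩ := cl_gr md.toPar (ac_sq md h5.mem h6) h2
  have hl' : ψ l ∈ Ns ψ.range := le_normalizer (⟨l, rfl⟩ : ψ l ∈ ψ.range)
  have h7 := h5.conj md hl'
  have h8 : ac ψ (ψ l * (r⁻¹ * u * r⁻¹⁻¹) * (ψ l)⁻¹) =
      MulAut.conj l * ac ψ (r⁻¹ * u * r⁻¹⁻¹) * (MulAut.conj l)⁻¹ := by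
    rw [md.ac_mul (mul_mem hl' h5.mem) (inv_mem hl'), md.ac_mul hl' h5.mem, md.ac_inv hl',
      md.ac_psi]
  have key : ∀ s ∈ Ns ψ.range, s * s = 1 → ac ψ (ψ l * (r⁻¹ * u * r⁻¹⁻¹) * (ψ l)⁻¹) = ac ψ s →
      ∃ c ∈ ψ.range ⊔ Cs ψ.range ⊔ zpowers (t * u), c * u * c⁻¹ = s := fun s hs s2 e' => by
    obtain ⟨c, hc, e'⟩ := conj_of_odd (Comp.conj_sq h6 (ψ l)) s2 h.odd
      ((md.ac_eq_one (mul_mem h7.mem hs)).1 (by rw [md.ac_mul h7.mem hs, e', ac_sq md hs s2]))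
    refine ⟨c * ψ l * r⁻¹, mul_mem (mem_sup_left (mul_mem (mem_sup_right hc)
      (mem_sup_left ⟨l, rfl⟩))) (mem_sup_right (inv_mem hr)), ?_⟩
    rw [← e']; group
  rcases hl with hl | ⟨hd, hl⟩
  · exact key t tt.mem h.t2 (by rw [h8, hl, md.ac_eq h.act])
  · have hz : ψ (z0 d F) ∈ Ns ψ.range := le_normalizer (⟨_, rfl⟩ : ψ _ ∈ ψ.range)
    have cz : t * ψ (z0 d F) = ψ (z0 d F) * t := by
      have := h.act (z0 d F)
      rw [md.toPar.gr_z0] at this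
      exact mul_inv_eq_iff_eq_mul.1 this
    obtain ⟨c, -, hc⟩ := key (t * ψ (z0 d F)) (mul_mem tt.mem hz) (by
      rw [mul_assoc, ← mul_assoc (ψ _), ← cz, mul_assoc t, ← map_mul, md.toPar.z0_sq, map_one,
        mul_one, h.t2]) (by rw [h8, hl, cz, md.ac_mul hz tt.mem, md.ac_psi, md.ac_eq h.act])
    exact (h.nb hd (hu.trans (isConj_iff.2 ⟨c, hc⟩))).elim

end Cfsg.Lib.SPA
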