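import Cfsg.Agent.SPA.Defs
import Cfsg.Agent.S0242

/-!
# `SL_N(2)` is not alternating for `N ≥ 6`
-/

set_option autoImplicit false

namespace Cfsg.Lib.SPA

open Cfsg.Lib.SLA (SLd)

variable {d : ℕ} {F : Type*} [Field F] [Finite F]

theorem Q6.fac {n : ℕ} (h : 15 ≤ n) : 2 * 8 ^ n < (n + 2).factorial := by
  induction n, h using Nat.le_induction with
  | base => decide
  | succ n h ih => rw [pow_succ, show n + 1 + 2 = n + 2 + 1 from rfl, Nat.factorial_succ]; nlinarith

theorem P2.nalt (h : P2 d F) (m : ℕ) : IsEmpty (SLd d F ≃* alternatingGroup (Fin m)) := by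
  refine ⟨fun e => ?_⟩
  have := Fintype.ofFinite F
  have hF : Fintype.card F = 2 := by
    classical
    rw [← Finset.card_univ, show (Finset.univ : Finset F) = {0, 1} from
      Finset.ext fun c => by simpa using h.q2 c, Finset.card_pair zero_ne_one]
  have h1 := Cfsg.Agent.S0242.result hF (d + 3) (by omega)
  rw [Nat.card_congr e.toEquiv, Nat.add_one_sub_one, one_mul] at h1
  obtain ⟨n, hn⟩ : ∃ n, ∑ i : Fin (d + 3), (i : ℕ) = n := ⟨_, rfl⟩
  have h2 : n * 2 = (d + 3) * (d + 2) := by
    rw [← hn, Fin.sum_univ_eq_sum_range (fun i => i), Finset.sum_range_id_mul_two]; rfl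
  have h3 := h.three
  have h4 : 15 ≤ n := by nlinarith
  have h5 : 2 ^ n ∣ Nat.card (alternatingGroup (Fin m)) := by
    rw [h1, ← hn, ← Finset.prod_pow_eq_pow_sum]
    exact Finset.prod_dvd_prod_of_dvd _ _ fun i _ => Nat.dvd_sub (pow_dvd_pow _ i.2.le) dvd_rfl
  have h6 : Nat.card (alternatingGroup (Fin m)) ≤ 8 ^ n := by
    rw [h1]
    refine (Finset.prod_le_pow_card _ _ (2 ^ (d + 3)) fun i _ => Nat.sub_le _ _).trans ?_
    rw [Finset.card_univ, Fintype.card_fin, ← pow_mul, show 8 = 2 ^ 3 from rfl, ← pow_mul]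
    exact Nat.pow_le_pow_right two_pos (by nlinarith)
  have hm : 2 ≤ m := by
    by_contra hm
    have : Subsingleton (Fin m) := Fin.subsingleton_iff_le_one.2 (by omega)
    rw [Nat.card_of_subsingleton (1 : alternatingGroup (Fin m)), Nat.dvd_one, Nat.pow_eq_one] at h5
    omega
  have : Nontrivial (Fin m) := Fin.nontrivial_iff_two_le.2 hm
  have h7 := two_mul_nat_card_alternatingGroup (α := Fin m)
  rw [Nat.card_perm, Nat.card_fin] at h7
  have h8 : n + 1 < m := by
    have := Nat.emultiplicity_two_factorial_lt (n := m) (by omega)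
    have h9 := le_emultiplicity_of_pow_dvd (show 2 ^ (n + 1) ∣ m.factorial by
      rw [← h7, pow_succ']; exact mul_dvd_mul_left 2 h5)
    exact_mod_cast h9.trans_lt this
  have := (Q6.fac h4).trans_le (Nat.factorial_le (show n + 2 ≤ m by omega))
  omega

end Cfsg.Lib.SPA
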