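import Cfsg.Agent.SPA.Q1
import Cfsg.Agent.SPA.Q2
import Cfsg.Agent.SPA.Q3
import Cfsg.Agent.SPA.Q4
import Cfsg.Agent.SPA.Q5
import Cfsg.Agent.SPA.Q6
import Cfsg.Agent.SLA.CONN
import Cfsg.Agent.SLA.K2b
import Cfsg.Agent.AE.Defs

/-!
# The field end game facts for an image of `SL_N(2)`
-/

set_option autoImplicit false
set_option linter.unusedSectionVars false
set_option linter.unusedVariables false

namespace Cfsg.Lib.SPA

open Subgroup Matrix Cfsg.Lib.Trans Cfsg.Lib.Gold Cfsg.Lib.Chev Cfsg.Lib.Known Cfsg.Lib.Class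
open Cfsg.Lib.SLA (I SLd Vc Par Md Ind El Fx Inr Ty IsTv ac gr lst z0 e0 f0 U0 P0 Q0 R0 V0 V1)
open scoped commutatorElement

section End
variable {G : Type*} [Group G] [Finite G] {d k : ℕ} {F : Type*} [Field F] [Finite F]
  {ψ : SLd d F →* G} {t : G} {X : Subgroup G}

namespace FM

theorem inj (h : Md ψ) (h2 : P2 d F) : Function.Injective ψ :=
  (injective_iff_map_eq_one ψ).2 fun x e => by
    have := h.ker_le e
    rwa [center_bot h2.q2, mem_bot] at this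

theorem cn (i : Function.Injective ψ) {v : SLd d F} :
    AE.Cn ψ.range (ψ (z0 d F)) (ψ v) ↔ IsTv v := by
  rw [SLA.isTv_iff, isConj_iff]
  refine ⟨?_, fun ⟨l, e⟩ => ⟨ψ l, ⟨l, rfl⟩, by rw [← e, map_mul, map_mul, map_inv]⟩⟩
  rintro ⟨_, ⟨l, rfl⟩, e⟩
  exact ⟨l, i (by rw [map_mul, map_mul, map_inv, e])⟩

theorem cn' (i : Function.Injective ψ) {v : SLd d F} :
    AE.Cn ψ.range (ψ (z0 d F)) (ψ v * ψ (z0 d F)) ↔ IsTv (v * z0 d F) := by
  rw [← map_mul, cn i]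

theorem le_Ns {D E : Subgroup (SLd d F)} (e : D ≤ Ns E) : D.map ψ ≤ Ns (E.map ψ) :=
  (map_mono e).trans (le_normalizer_map ψ)

theorem le_Ns' {D : Subgroup (SLd d F)} {N : Subgroup G} (e : D.map ψ ≤ Ns N) :
    D ≤ Ns (N.comap ψ) := (map_le_iff_le_comap.1 e).trans (le_normalizer_comap ψ)

theorem comap_le (i : Function.Injective ψ) {D : Subgroup (SLd d F)} {N : Subgroup G}
    (e : N ≤ D.map ψ) : N.comap ψ ≤ D :=
  (comap_mono e).trans (comap_map_eq_self_of_injective i D).le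

theorem eq_map {D E : Subgroup (SLd d F)} {N : Subgroup G} (e : N ≤ D.map ψ)
    (k : N.comap ψ = E) : N = E.map ψ := by
  rw [← k, map_comap_eq_self (e.trans (map_le_range ψ D))]

theorem PR : (P0 d F).map ψ ≤ Cs ((R0 d F).map ψ) := by
  rintro _ ⟨p, hp, rfl⟩ _ ⟨r, hr, rfl⟩
  rw [← map_mul, ← map_mul, (SLA.C1_z0.le (SLA.P_le_C hp)) r hr]

theorem one (i : Function.Injective ψ) (h2 : P2 d F) {n : G}
    (hn : n ∈ Ns ((Q0 d F).map ψ) ⊓ Cs ((R0 d F).map ψ))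
    (k : ∀ p ∈ (P0 d F).map ψ, ⁅n, p⁆ ∈ (Q0 d F).map ψ) {j : I d} (hj : Mi j) {v : SLd d F}
    (hv : v = slE 0 j 1 ∨ v = slE j (lst d) 1) (hq : v ∈ Q0 d F) :
    ⁅n, ψ v⁆ ∈ (R0 d F).map ψ := by
  obtain ⟨b, hb, e⟩ := (mem_normalizer_iff.1 hn.1 _).1 (mem_map_of_mem ψ hq)
  have key : ∀ p ∈ P0 d F, Commute p v → ⁅p, b⁆ ∈ R0 d F := fun p hp c => by
    obtain ⟨q, hq, e'⟩ := k _ (mem_map_of_mem ψ hp)
    have c' : q * p * b = b * (q * p) := i (by
      have := congrArg ψ c.eq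
      simp only [map_mul] at this ⊢
      rw [e, e', commutatorElement_def]
      calc _ = n * (ψ p * ψ v) * n⁻¹ := by group
        _ = _ := by rw [this]; group)
    rw [show ⁅p, b⁆ = q⁻¹ * (q * p * b) * p⁻¹ * b⁻¹ by rw [commutatorElement_def]; group, c',
      show q⁻¹ * (b * (q * p)) * p⁻¹ * b⁻¹ = ⁅q⁻¹, b⁆ by rw [commutatorElement_def]; group]
    exact h2.toPar.comm_Q (commutator_mem_commutator (inv_mem hq) hb)
  rcases h2.fixR hj hv hb key with r | r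
  · have := hn.2 _ (mem_map_of_mem ψ r)
    have e' : ψ v = ψ b := by
      rw [show ψ v = n⁻¹ * (n * ψ v * n⁻¹) * n by group, ← e, mul_assoc, this]; group
    rw [commutatorElement_def, ← e, e', mul_inv_cancel]
    exact one_mem _
  · exact ⟨_, r, by rw [map_mul, map_inv, e, commutatorElement_def]⟩

theorem zPQ (i : Function.Injective ψ) (h2 : P2 d F) {n : G}
    (hn : n ∈ Ns ((Q0 d F).map ψ) ⊓ Cs ((R0 d F).map ψ))
    (k : ∀ p ∈ (P0 d F).map ψ, ⁅n, p⁆ ∈ (Q0 d F).map ψ) :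
    ∀ a ∈ (Q0 d F).map ψ, ⁅n, a⁆ ∈ (R0 d F).map ψ := by
  have nr : ∀ a ∈ (Q0 d F).map ψ, ∀ r ∈ (R0 d F).map ψ, a * r * a⁻¹ ∈ (R0 d F).map ψ :=
    fun a ha r hr => by
      rwa [← PR (map_mono (SLA.Q_le_U.trans SLA.U_le_P) ha) r hr, mul_inv_cancel_right]
  let S : Subgroup G :=
    { carrier := {a | a ∈ (Q0 d F).map ψ ∧ ⁅n, a⁆ ∈ (R0 d F).map ψ}
      one_mem' := ⟨one_mem _, by rw [commutatorElement_one_right]; exact one_mem _⟩
      mul_mem' := fun {a b} ha hb => ⟨mul_mem ha.1 hb.1, by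
        rw [show ⁅n, a * b⁆ = ⁅n, a⁆ * (a * ⁅n, b⁆ * a⁻¹) by
          simp only [commutatorElement_def]; group]
        exact mul_mem ha.2 (nr a ha.1 _ hb.2)⟩
      inv_mem' := fun {a} ha => ⟨inv_mem ha.1, by
        rw [show ⁅n, a⁻¹⁆ = a⁻¹ * ⁅n, a⁆⁻¹ * a⁻¹⁻¹ by simp only [commutatorElement_def]; group]
        exact nr _ (inv_mem ha.1) _ (inv_mem ha.2)⟩ }
  have r0 : ∀ s : F, slE 0 (lst d) s ∈ S.comap ψ := fun s => by
    have := mem_map_of_mem ψ (show slE 0 (lst d) s ∈ R0 d F from SLA.slE_mem_Rt _ _ s)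
    refine ⟨map_mono (SLA.R0_le_V0.trans le_sup_left) this, ?_⟩
    rw [commutatorElement_def, ← hn.2 _ this, mul_inv_cancel_right, mul_inv_cancel]
    exact one_mem _
  have z : ∀ a b : I d, a ≠ b → slE a b (0 : F) ∈ S.comap ψ := fun a b e => by
    rw [show slE a b (0 : F) = 1 from Subtype.ext (by rw [coe_slE e]; simp)]
    exact one_mem _
  have : Q0 d F ≤ S.comap ψ := gen_Q _ (fun j hj s => by
      rcases h2.q2 s with rfl | rfl
      · exact z _ _ hj.symm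
      by_cases e : j = lst d
      · exact e ▸ r0 1
      · have q := slE_mem_Q (F := F) hj.symm (.inl rfl) 1
        exact ⟨mem_map_of_mem ψ q, one i h2 hn k ⟨hj, e⟩ (.inl rfl) q⟩) fun j hj s => by
    rcases h2.q2 s with rfl | rfl
    · exact z _ _ hj
    by_cases e : j = 0
    · exact e ▸ r0 1
    · have q := slE_mem_Q (F := F) hj (.inr rfl) 1
      exact ⟨mem_map_of_mem ψ q, one i h2 hn k ⟨e, hj⟩ (.inr rfl) q⟩
  rintro _ ⟨a, ha, rfl⟩
  exact (this ha).2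

end FM

theorem fm (h : Md ψ) (h2 : P2 d F) : AE.FM ψ.range ((U0 d F).map ψ) ((P0 d F).map ψ)
    ((Q0 d F).map ψ) ((R0 d F).map ψ) (ψ (z0 d F)) := by
  have i := FM.inj h h2
  have m : ∀ {D : Subgroup (SLd d F)} {x}, ψ x ∈ D.map ψ ↔ x ∈ D := mem_map_iff_mem i
  have pq : (P0 d F).map ψ ≤ Ns ((Q0 d F).map ψ) := FM.le_Ns (SLA.P_le_C.trans SLA.PV_C_Q)
  refine
    { perf := h.perf
      RQ := map_mono (SLA.R0_le_V0.trans le_sup_left)
      QU := map_mono SLA.Q_le_U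
      UP := map_mono SLA.U_le_P
      PL := map_le_range ψ _
      zR := mem_map_of_mem ψ SLA.z0_mem_R0
      z1 := h.ne
      el := (h.toPar.el_Rt SLA.zero_ne_lst).map ψ
      PR := FM.PR
      PQ := pq
      cQ := by rw [← map_commutator, h2.cQ]
      sQ := ?_
      nsA := fun g hg => h.ind_ac hg _ ▸ (FM.cn i).2 (h.toPar.tv_map _ SLA.isTv_z0)
      rA := ?_
      k3 := ?_
      fq := ?_
      gQ := ?_
      f6 := ?_
      f7Q := fun N h1 h3 h4 h5 => FM.eq_map h3 (h2.f7Q (map_le_iff_le_comap.1 h1)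
        (FM.comap_le i h3) (FM.le_Ns' h4) fun v hv e => m.1 (h5 _ hv (by rw [← map_mul, e, map_one])))
      f7R := fun N h1 h3 h4 h5 => FM.eq_map h3 (h2.f7R (map_le_iff_le_comap.1 h1)
        (FM.comap_le i h3) (FM.le_Ns' h4) fun v hv e => m.1 (h5 _ hv (by rw [← map_mul, e, map_one])))
      f8 := fun g hg => ?_
      f10 := fun N h1 h3 h4 h5 => ?_
      zPQ := fun n hn => FM.zPQ i h2 hn
      gen := fun H hH => ?_
      hT := ?_
      nalt := fun n => ⟨fun e => (h2.nalt n).false ((MonoidHom.ofInjective i).trans e)⟩ }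
  · rintro _ ⟨a, ha, rfl⟩
    rw [← map_mul]
    exact m.2 (h.toPar.sq_Q ha)
  · rintro _ ⟨r, hr, rfl⟩ e
    exact (FM.cn i).2 (SLA.isTv_of_V (.inl (SLA.R0_le_V0 hr)) fun k => e (by rw [k, map_one]))
  · rintro _ ⟨v, hv, rfl⟩ a b
    exact m.2 (h2.k3 hv ((FM.cn i).1 a) ((FM.cn' i).1 b))
  · rintro _ ⟨v, hv, rfl⟩ a
    obtain ⟨b, hb, e⟩ := h2.fq hv fun k => a (m.2 k)
    exact ⟨ψ b, m.2 hb, by rw [← map_mul ψ v, ← e, map_mul, map_mul, map_inv]⟩
  · refine (map_mono h2.gQ).trans ?_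
    rw [Subgroup.map_sup, MonoidHom.map_closure]
    refine sup_le_sup_right (Subgroup.closure_mono ?_) _
    rintro _ ⟨v, ⟨a, b, c⟩, rfl⟩
    exact ⟨m.2 a, (FM.cn i).2 b, (FM.cn' i).2 c⟩
  · rintro _ ⟨v, hv, rfl⟩ a -
    obtain ⟨b, b1, b2, b3, b4⟩ := h2.f6 (SLA.U_le_P hv) fun k => a (m.2 k)
    have c1 := h2.tvV (.inl b1) b2
    have c2 := h2.tvV (.inl b3) b4
    refine ⟨ψ b, m.2 (mem_sup_left b1), ψ ⁅b, v⁆, m.2 (mem_sup_left b3), (FM.cn i).2 c1.1,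
      (FM.cn' i).2 c1.2, (FM.cn i).2 c2.1, (FM.cn' i).2 c2.2, fun k => b4 (m.1 k), ?_⟩
    rw [map_commutatorElement, inv_mul_cancel]
    exact one_mem _
  · have a := h.ind_ac hg.1
    have b := h2.fixP (β := ac ψ g) (i (by
      rw [← a, ← hg.2 _ rfl, mul_inv_cancel_right]))
    exact ⟨mem_Ns_iff.2 (by rw [a.map, b.1]), mem_Ns_iff.2 (by rw [a.map, b.2])⟩
  · rcases h2.qs (map_le_iff_le_comap.1 h1) (FM.comap_le i h3) (FM.le_Ns' h4) with e | e
    · rw [FM.eq_map h3 e]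
      refine commutator_le.2 fun a ha p hp => ?_
      rw [show ⁅a, p⁆ = a * (p * a⁻¹ * p⁻¹) by rw [commutatorElement_def]; group]
      exact mul_mem ha ((mem_normalizer_iff.1 (pq hp) _).1 (inv_mem ha))
    · refine absurd (fun u hu => m.1 (h5.le ⟨?_, m.2 hu⟩)) h2.not_le
      exact e.ge (SLA.U_le_P hu)
  · have := h2.gen (N := H.comap ψ) fun l hl => map_le_iff_le_comap.1 (by
      rw [← SLA.mp_conj, ← (SLA.ind_conj ψ l).map]
      exact hH _ ⟨l, rfl⟩ (by rw [← map_inv, ← map_mul, ← map_mul]; exact m.2 hl))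
    rintro _ ⟨x, rfl⟩
    exact this.ge (mem_top x)
  · obtain ⟨v, a, b⟩ := h2.hT
    exact ⟨ψ v, ⟨v, rfl⟩, by rw [← map_mul, a, map_one], fun k => b (m.1 k)⟩

end End

end Cfsg.Lib.SPA
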