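import Cfsg.Agent.SPA.Defs

/-!
# Standard subgroups of type `Sp_{2k}(2ⁿ)`: the calculus of the linear transvections
-/

set_option autoImplicit false
set_option linter.unusedSectionVars false
set_option linter.unusedVariables false

namespace Cfsg.Lib.SPA

open Subgroup Matrix Cfsg.Lib.Trans Cfsg.Lib.Gold Cfsg.Lib.Chev Cfsg.Lib.Known Cfsg.Lib.Class
  Cfsg.Lib.Class.Form Cfsg.Lib.Class.FAut
open Cfsg.Lib.UM (tT tE Ot)
open Cfsg.Lib.SPN (Mo O3 H1 TH T1 T3 G1 G2)
open scoped commutatorElement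

variable {G F M : Type*} [Group G] [Finite G] [Field F] [Finite F] [AddCommGroup M] [Module F M]
  [FiniteDimensional F M] {B : M →ₗ[F] M →ₗ[F] F} {φ : sIsom B →* G} {t : G} {H A : M → M → G}
  {β c : F}

namespace I1

theorem comm_tw {G : Type*} [Group G] {a b e e' A C Z : G} (h1 : A * b * A⁻¹ = b * e)
    (h2 : A * C * A⁻¹ = C * Z) (h3 : C * a * C⁻¹ = a * e') (ZC : Commute Z C)
    (ka : Commute (e * Z * e'⁻¹) a) (kb : Commute (e * Z * e'⁻¹) b) :
    ⁅a * A, b * C⁆ = ⁅a, b⁆ * (e * Z * e'⁻¹) := by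
  have e1 : C * a⁻¹ * C⁻¹ = e'⁻¹ * a⁻¹ := by rw [← _root_.mul_inv_rev, ← h3]; group
  calc ⁅a * A, b * C⁆ = a * (A * b * A⁻¹) * (A * C * A⁻¹) * a⁻¹ * C⁻¹ * b⁻¹ := by
        rw [commutatorElement_def]; group
    _ = a * b * e * (C * Z) * a⁻¹ * C⁻¹ * b⁻¹ := by rw [h1, h2]; group
    _ = a * b * e * Z * (C * a⁻¹ * C⁻¹) * b⁻¹ := by rw [← ZC.eq]; group
    _ = a * b * ((e * Z * e'⁻¹) * (a⁻¹ * b⁻¹)) := by rw [e1]; group
    _ = _ := by rw [(ka.inv_right.mul_right kb.inv_right).eq, commutatorElement_def]; group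

theorem sr {u w : M} (k : B u w = 0) (a : F) : B u (a • w) = 0 := by rw [map_smul, k, smul_zero]

theorem sl {u w : M} (k : B u w = 0) (a : F) : B (a • u) w = 0 := by
  rw [map_smul, LinearMap.smul_apply, k, smul_zero]

theorem Es (h : Mo B) {u w : M} (k : B u w = 0) (a : F) : tE B w (a • u) = tE B u (a • w) := by
  rw [← h.tE_comm (sl k a), h.tE_smul k]

theorem fixE (h : Mo B) {p q z : M} (k : B p q = 0) (h1 : B p z = 0) (h2 : B q z = 0) :
    lin (tE B p q) z = z := by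
  rw [h.lin_tE k, h1, h2, zero_smul, zero_smul, add_zero, add_zero]

theorem cE (h : TH φ t H 1 β) {p q u w : M} (k : B p q = 0) (h1 : B p u = 0) (h2 : B q u = 0)
    (h3 : B p w = 0) (h4 : B q w = 0) : Commute (φ (tE B p q)) (H u w) :=
  Comp.comm_of_conj_eq (by rw [h.eqv, fixE h.toMo k h1 h2, fixE h.toMo k h3 h4])

theorem swap (h : TH φ t H 1 β) {u w : M} (k : B u w = 0) : H w u = H u w * φ (tE B u w) := by
  rw [h.swap u w k, one_smul]

theorem cE' (h : TH φ t H 1 β) {u w : M} (k : B u w = 0) (a b : F) :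
    Commute (φ (tE B u (a • w))) (H u (b • w)) :=
  cE h (sr k a) (h.alt u) (sl (h.toMo.swap k) a) (sr k b) (sl (sr (h.alt w) b) a)

theorem cE1 (h : TH φ t H 1 β) {u w : M} (k : B u w = 0) (a : F) :
    Commute (φ (tE B u (a • w))) (H u w) := by
  simpa only [one_smul] using cE' h k a 1

theorem cc (h : TH φ t H 1 β) (hc : c * c + c = β) {u w x y : M} (k : O3 B u w x)
    (uy : B u y = 0) (wy : B w y = 0) : Commute (Ax φ H c u x) (Ax φ H c w y) := by
  have mo := h.toMo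
  have wu := mo.swap k.uw
  have xu := mo.swap k.ux
  have xw := mo.swap k.wx
  have yu := mo.swap uy
  have e0 : Ax φ H c w y = H w y * φ (tE B w ((1 + c) • y)) := by
    rw [Ax, swap h wy, Es mo wy, mul_assoc, ← map_mul, add_smul, one_smul,
      mo.tE_add ⟨wy, sr wy c, sr (mo.alt y) c⟩]
  have ly : lin (tE B x (c • u)) y = y + (B x y * c) • u := by
    rw [mo.lin_tE (sr xu c), sl uy, zero_smul, add_zero, smul_smul]
  have lw : lin (tE B x (c • u)) w = w := fixE mo (sr xu c) xw (sl k.uw c)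
  have o3 : O3 B w ((1 + c) • y) ((β * B x y) • u) := ⟨sr wy _, sr wu _, sl (sr yu _) _⟩
  have hk : H w ((B x y * c) • u) * φ (tE B w ((β * B x y) • u)) *
      (H w (((1 + c) * B x y) • u))⁻¹ = H w (B x y • u) * φ (tE B w ((β * B x y) • u)) := by
    rw [inv_eq_of_mul_eq_one_right (h.sq _ _), mul_assoc, (cE' h wu _ _).eq, ← mul_assoc,
      ← h.add2 _ _ _ ⟨sr wu _, sr wu _, sl (sr (mo.alt u) _) _⟩, ← add_smul]
    congr 3
    linear_combination (B x y * c) * mo.two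
  have key := comm_tw (a := H x u) (b := H w y) (A := φ (tE B x (c • u)))
    (C := φ (tE B w ((1 + c) • y))) (Z := φ (tE B w ((β * B x y) • u)))
    (e := H w ((B x y * c) • u)) (e' := H w (((1 + c) * B x y) • u))
    (by rw [h.eqv, ly, lw, h.add2 _ _ _ ⟨wy, sr wu _, sr yu _⟩])
    (by
      rw [← map_inv, ← map_mul, ← map_mul, mo.tE_conj _ (sr wy _), lw, map_smul, ly, ← map_mul,
        ← mo.tE_add o3, smul_add, smul_smul, ← hc]
      congr 4
      ring)
    (by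
      rw [h.eqv, fixE mo (sr wy _) wu (sl yu _), mo.lin_tE (sr wy _), k.wx, zero_smul, add_zero,
        h.add1 _ _ _ ⟨sr xw _, xu, sl wu _⟩, h.smul, map_smul, LinearMap.smul_apply, smul_eq_mul,
        mo.symm y x])
    (Commute.map (show _ * _ = _ * _ by
      rw [← mo.tE_add o3, ← mo.tE_add ⟨o3.ux, o3.uw, mo.swap o3.wx⟩, add_comm]) φ)
    (hk ▸ (h.com _ _ _ _ ⟨sr wu _, k.wx, sl k.ux _⟩ ⟨sr wu _, wu, sl (mo.alt u) _⟩ xu).mul_left
      (cE h (sr wu _) k.wx (sl k.ux _) wu (sl (mo.alt u) _)))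
    (hk ▸ (h.comw _ _ _).mul_left (cE h (sr wu _) (mo.alt w) (sl k.uw _) wy (sl uy _)))
  rw [hk, h.r120 _ _ _ _ ⟨k.wx, wu, xu⟩ wy uy, (cE' h wu _ _).mul_mul_mul_comm, h.sq, ← map_mul,
    mo.tE_sq (sr wu _), map_one, one_mul] at key
  rw [e0]
  exact commutatorElement_eq_one_iff_commute.1 key

end I1

open I1

theorem ha (h : TH φ t H 1 β) (hc : c * c + c = β) : HA φ t (Ax φ H c) := by
  have mo := h.toMo
  refine ⟨h.toH1, fun w u x k => ?_, fun u w x k => ?_, fun a u w k => ?_, fun g u w k => ?_,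
    fun u w x y => cc h hc, fun u w k => ?_, fun u a => ?_, fun u w k => ?_⟩
  · rw [Ax, Ax, Ax, h.add2 _ _ _ k, smul_add, mo.tE_add ⟨sr k.uw c, sr k.ux c, sl (sr k.wx c) c⟩,
      map_mul, (cE h (sr k.uw c) (mo.alt w) (sl (mo.swap k.uw) c) k.ux (sl k.wx c)).mul_mul_mul_comm]
  · have wu := mo.swap k.uw
    have xu := mo.swap k.ux
    rw [Ax, Ax, Ax, h.add1 _ _ _ ⟨k.wx, wu, xu⟩, mo.tE_add' ⟨k.wx, sr wu c, sr xu c⟩, map_mul,
      (cE h (sr wu c) k.wx (sl k.ux c) wu (sl (mo.alt u) c)).mul_mul_mul_comm]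
  · rw [Ax, Ax, h.smul, mo.tE_smul (sr (mo.swap k) c), smul_comm]
  · rw [Ax, Ax, ← conj_mul', h.eqv, ← map_inv, ← map_mul, ← map_mul,
      mo.tE_conj _ (sr (mo.swap k) c), map_smul]
  · rw [Ax, Ax, swap h k, Es mo k, (cE1 h k c).mul_mul_mul_comm, ← map_mul, mo.tE_sq (sr k c),
      map_one, mul_one, mul_assoc, (by simpa only [one_smul] using cE1 h k 1 :
        Commute (φ (tE B u w)) (H u w)).eq, ← mul_assoc, h.sq, one_mul]
  · rw [Ax, h.self, smul_smul, mo.tE_self, map_one, mul_one, one_mul]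
  · have wu := mo.swap k
    have e := h.ht w u wu
    have e' : t * H w u * t⁻¹ = H w u * φ (tE B w u) := by
      rw [← (by simpa only [one_smul] using cE1 h wu 1 : Commute (φ (tE B w u)) (H w u)).eq,
        inv_eq_of_mul_eq_one_right h.t2]
      rw [mul_inv_eq_iff_eq_mul] at e
      rw [mul_assoc, e, ← mul_assoc, ← mul_assoc, h.t2, one_mul]
    rw [Ax, Ax, ← conj_mul', e', Comp.conj_eq_of_comm (h.tc _), swap h wu, Es mo k]

theorem H_eq (h : TH φ t H 1 β) (c : F) {x y : M} (k : B x y = 0) :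
    H y x = Ax φ H c ((c + 1) • x) y * Ax φ H c (c • y) x := by
  have mo := h.toMo
  have yx := mo.swap k
  have o : ∀ a b : F, O3 B y (a • x) (b • x) := fun a b =>
    ⟨sr yx a, sr yx b, sl (sr (mo.alt x) b) a⟩
  rw [Ax, Ax, ← h.smul c x y, swap h (sr yx c), smul_smul, smul_smul, Es mo yx, mul_assoc (H y (c • x)),
    ← map_mul, ← mo.tE_add (o _ _), (cE' h yx _ _).mul_mul_mul_comm, ← h.add2 _ _ _ (o _ _),
    ← add_smul, ← add_smul, ← map_mul, ← mo.tE_add (o _ _), ← add_smul,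
    show c + 1 + c = 1 by linear_combination c * mo.two,
    show c * (c + 1) + (c + c * c) = 0 by linear_combination (c * c + c) * mo.two, one_smul,
    zero_smul, mo.tE_zero, map_one, mul_one]

end Cfsg.Lib.SPA
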